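import Cfsg.Agent.ConjAbelian.Quotient
import Cfsg.Agent.Thompson.Stable

/-!
Criteria for all subgroups of equal order to be conjugate.
-/

set_option autoImplicit false

namespace Cfsg.Agent.ConjAbelian

open Subgroup
open scoped commutatorElement Pointwise

universe u

/-- Subgroups of equal order are conjugate. -/
def All (G : Type u) [Group G] : Prop :=
  ∀ A B : Subgroup G, Nat.card A = Nat.card B → ∃ g : G, B = A.map (MulAut.conj g).toMonoidHom

variable {G : Type u} [Group G]

theorem map_conj_mul (a b : G) (A : Subgroup G) :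
    A.map (MulAut.conj (a * b)).toMonoidHom =
      (A.map (MulAut.conj b).toMonoidHom).map (MulAut.conj a).toMonoidHom := by
  rw [Subgroup.map_map]
  congr 1
  ext x
  simp [mul_assoc]

theorem card_map_conj (g : G) (A : Subgroup G) :
    Nat.card (A.map (MulAut.conj g).toMonoidHom) = Nat.card A :=
  card_map_of_injective (f := (MulAut.conj g).toMonoidHom) (MulAut.conj g).injective

theorem map_mk_conj (M : Subgroup G) [M.Normal] (g : G) (A : Subgroup G) :
    (A.map (MulAut.conj g).toMonoidHom).map (QuotientGroup.mk' M) =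
      (A.map (QuotientGroup.mk' M)).map (MulAut.conj (QuotientGroup.mk' M g)).toMonoidHom := by
  rw [Subgroup.map_map, Subgroup.map_map]
  congr 1

theorem le_sup_of_map_le (M : Subgroup G) [M.Normal] {A B : Subgroup G}
    (h : A.map (QuotientGroup.mk' M) ≤ B.map (QuotientGroup.mk' M)) : A ≤ M ⊔ B := by
  intro a ha
  obtain ⟨b, hb, he⟩ := h (mem_map_of_mem _ ha)
  have : a * b⁻¹ ∈ M := by
    rw [← QuotientGroup.eq_one_iff]
    show QuotientGroup.mk' M (a * b⁻¹) = 1
    rw [map_mul, map_inv, he, mul_inv_cancel]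
  have := mul_mem (mem_sup_left this : a * b⁻¹ ∈ M ⊔ B) (mem_sup_right hb)
  rwa [inv_mul_cancel_right] at this

/-- Splitting an order into coprime parts is unique. -/
theorem eq_of_mul_eq {d d' e e' : ℕ} (h : e * d = e' * d') (h1 : d.Coprime e') (h2 : d'.Coprime e) :
    d = d' :=
  Nat.dvd_antisymm (h1.dvd_of_dvd_mul_left (Dvd.intro_left _ h))
    (h2.dvd_of_dvd_mul_left (Dvd.intro_left _ h.symm))

variable [Finite G]

/-- Step: a normal subgroup of prime order containing all elements of that order. -/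
theorem all_of_prime_order [Group.IsSolvable G] {q : ℕ} (hq : q.Prime) (M : Subgroup G) [M.Normal]
    (hM : Nat.card M = q) (hall : ∀ a : G, orderOf a = q → a ∈ M) (hQ : All (G ⧸ M)) : All G := by
  have := Fact.mk hq
  have hsplit : ∀ A : Subgroup G, q ∣ Nat.card A → M ≤ A := by
    intro A hA
    obtain ⟨x, hx⟩ := exists_prime_orderOf_dvd_card' (G := A) q hA
    have hx' : orderOf (x : G) = q := by rw [orderOf_coe, hx]
    have h : zpowers (x : G) = M := eq_of_le_of_card_ge (zpowers_le.2 (hall _ hx'))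
      (by rw [Nat.card_zpowers, hx', hM])
    exact h ▸ zpowers_le.2 x.2
  have hinf : ∀ A : Subgroup G, ¬ q ∣ Nat.card A → A ⊓ M = ⊥ := fun A hA =>
    Coprime.inf_eq_bot_of_coprime (by
      rw [hM]; exact (hq.coprime_iff_not_dvd.2 hA).symm)
  intro A B hAB
  have hcard : Nat.card (A.map (QuotientGroup.mk' M)) = Nat.card (B.map (QuotientGroup.mk' M)) := by
    refine Nat.eq_of_mul_eq_mul_right (Nat.card_pos (α := (B ⊓ M : Subgroup G))) ?_
    rw [← S3911.card_eq_map_mul M B, ← hAB]
    conv_rhs => rw [S3911.card_eq_map_mul M A]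
    by_cases hA : q ∣ Nat.card A
    · rw [inf_eq_right.2 (hsplit A hA), inf_eq_right.2 (hsplit B (hAB ▸ hA))]
    · rw [hinf A hA, hinf B (hAB ▸ hA)]
  obtain ⟨g', hg'⟩ := hQ _ _ hcard
  obtain ⟨g, rfl⟩ := QuotientGroup.mk'_surjective M g'
  set A' := A.map (MulAut.conj g).toMonoidHom with hA'
  have hA'c : Nat.card A' = Nat.card A := card_map_conj g A
  have hle : A' ≤ M ⊔ B := le_sup_of_map_le M (by rw [hA', map_mk_conj, ← hg'])
  by_cases hA : q ∣ Nat.card A
  · refine ⟨g, (eq_of_le_of_card_ge ?_ (by rw [hA'c, hAB])).symm⟩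
    exact hle.trans (sup_le (hsplit B (hAB ▸ hA)) le_rfl)
  · obtain ⟨k, -, hk⟩ := Coprime.exists_conj_eq (A := B) (K := M) (B := A')
      le_normalizer_of_normal (by rw [hM, ← hAB]; exact (hq.coprime_iff_not_dvd.2 hA).symm)
      (Or.inl inferInstance) hle (hA'c.trans hAB)
    refine ⟨k * g, ?_⟩
    rw [map_conj_mul, ← hA', ← Coprime.conj_smul_eq_map, hk]

/-- Quotients of groups with cyclic Sylow subgroups have cyclic Sylow subgroups. -/
theorem cyclic_sylow_quotient (M : Subgroup G) [M.Normal] {p : ℕ} [Fact p.Prime]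
    (h : ∀ S : Sylow p G, IsCyclic (S : Subgroup G)) (P : Sylow p (G ⧸ M)) :
    IsCyclic (P : Subgroup (G ⧸ M)) := by
  let S : Sylow p G := default
  have := h S
  let S' := S.mapSurjective (QuotientGroup.mk'_surjective M)
  have h2 : IsCyclic (S' : Subgroup (G ⧸ M)) := by
    rw [Sylow.coe_mapSurjective]
    exact isCyclic_of_surjective _ ((QuotientGroup.mk' M).subgroupMap_surjective (S : Subgroup G))
  exact isCyclic_of_surjective (S'.equiv P) (S'.equiv P).surjective

/-- In a solvable group with cyclic Sylow subgroups, subgroups of equal order are conjugate. -/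
theorem all_of_cyclic_sylow (G : Type u) [Group G] [Finite G] [Group.IsSolvable G]
    (h : ∀ p : ℕ, p.Prime → ∀ S : Sylow p G, IsCyclic (S : Subgroup G)) : All G := by
  induction hn : Nat.card G using Nat.strong_induction_on generalizing G with
  | _ n IH =>
  subst hn
  by_cases htriv : (⊤ : Subgroup G) = ⊥
  · intro A B _
    exact ⟨1, le_antisymm ((le_top (a := B)).trans (htriv.le.trans bot_le))
      ((le_top).trans (htriv.le.trans bot_le))⟩
  obtain ⟨N, hNn, -, hNne, -, q, hq, hNea⟩ := exists_minimal (M := (⊤ : Subgroup G)) htriv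
  have := Fact.mk hq
  have hNp : IsPGroup q N := fun x => ⟨1, Subtype.ext (by simpa using hNea.2 x x.2)⟩
  have hle : ∀ S : Sylow q G, N ≤ S := fun S => (Core.le_pCore hNp).trans (Core.pCore_le_sylow S)
  have hcard : Nat.card N = q := by
    let S : Sylow q G := default
    have := h q hq S
    have : IsCyclic N :=
      isCyclic_of_injective (Subgroup.inclusion (hle S)) (inclusion_injective (hle S))
    obtain ⟨x, hx⟩ := IsCyclic.exists_generator (α := N)
    have hd : Nat.card N ∣ q := by
      rw [← orderOf_eq_card_of_forall_mem_zpowers hx]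
      exact orderOf_dvd_of_pow_eq_one (Subtype.ext (by simpa using hNea.2 x x.2))
    exact ((Nat.dvd_prime hq).1 hd).resolve_left fun h1 => hNne (Subgroup.card_eq_one.1 h1)
  refine all_of_prime_order hq N hcard (fun a ha => ?_) ?_
  · obtain ⟨S, hS⟩ := (IsPGroup.of_card (n := 1) (by rw [Nat.card_zpowers, ha, pow_one]) :
      IsPGroup q (zpowers a)).exists_le_sylow
    exact S3911.le_of_card_dvd (h q hq S) hS (hle S) (by rw [Nat.card_zpowers, ha, hcard])
      (mem_zpowers a)
  · have : Group.IsSolvable (G ⧸ N) :=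
      Group.isSolvable_of_surjective (QuotientGroup.mk'_surjective N)
    refine IH _ ?_ (G ⧸ N) (fun p hp S => ?_) rfl
    · rw [Subgroup.card_eq_card_quotient_mul_card_subgroup N]
      exact lt_mul_of_one_lt_right Nat.card_pos ((Subgroup.one_lt_card_iff_ne_bot N).2 hNne)
    · have := Fact.mk hp
      exact cyclic_sylow_quotient N (h p hp) S

/-- Conjugacy of subgroups of equal order across a normal Hall subgroup. -/
theorem all_of_normal_hall [Group.IsSolvable G] (N : Subgroup G) [N.Normal]
    (hN : (Nat.card N).Coprime N.index)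
    (hsub : ∀ D E : Subgroup G, D ≤ N → E ≤ N → Nat.card D = Nat.card E →
      ∃ g : G, E = D.map (MulAut.conj g).toMonoidHom)
    (hnorm : ∀ D : Subgroup G, D ≤ N →
      All ((normalizer (D : Set G)).map (QuotientGroup.mk' N))) : All G := by
  have hcop : ∀ (A A' : Subgroup G), (Nat.card (A ⊓ N : Subgroup G)).Coprime
      (Nat.card (A'.map (QuotientGroup.mk' N))) := fun A A' =>
    (hN.coprime_dvd_left (Subgroup.card_dvd_of_le inf_le_right)).coprime_dvd_right
      (by rw [Subgroup.index_eq_card]; exact card_subgroup_dvd_card _)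
  intro A B hAB
  have hD : Nat.card (A ⊓ N : Subgroup G) = Nat.card (B ⊓ N : Subgroup G) :=
    eq_of_mul_eq ((S3911.card_eq_map_mul N A).symm.trans (hAB.trans (S3911.card_eq_map_mul N B)))
      (hcop A B) (hcop B A)
  obtain ⟨g, hg⟩ := hsub _ _ inf_le_right inf_le_right hD
  set D := B ⊓ N with hDdef
  set A₁ := A.map (MulAut.conj g).toMonoidHom with hA₁
  have hA₁N : A₁ ⊓ N = D := by
    rw [hg, map_inf _ _ _ (MulAut.conj g).injective, Thompson.map_conj_eq_self (M := N) g]
  have hA₁c : Nat.card A₁ = Nat.card B := (card_map_conj g A).trans hAB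
  have hnormal : ∀ {A : Subgroup G}, A ⊓ N = D → A ≤ normalizer (D : Set G) := fun h =>
    h ▸ Coprime.le_normalizer_inf le_normalizer le_normalizer_of_normal
  set π := QuotientGroup.mk' N with hπ
  set X := (normalizer (D : Set G)).map π with hX
  have hcards : Nat.card ((A₁.map π).subgroupOf X) = Nat.card ((B.map π).subgroupOf X) := by
    rw [Nat.card_congr (subgroupOfEquivOfLe (map_mono (hnormal hA₁N))).toEquiv,
      Nat.card_congr (subgroupOfEquivOfLe (map_mono (hnormal (rfl : B ⊓ N = D)))).toEquiv]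
    refine Nat.eq_of_mul_eq_mul_right (Nat.card_pos (α := D)) ?_
    conv_lhs => rw [← hA₁N]
    rw [← S3911.card_eq_map_mul N A₁, hA₁c, hDdef, ← S3911.card_eq_map_mul N B]
  obtain ⟨⟨y, hy⟩, hxy⟩ := hnorm D inf_le_right _ _ hcards
  obtain ⟨x, hx, rfl⟩ := hy
  have hxy' : B.map π = (A₁.map π).map (MulAut.conj (π x)).toMonoidHom := by
    have h1 := congrArg (Subgroup.map X.subtype) hxy
    rw [map_subgroupOf_eq_of_le (map_mono (hnormal (rfl : B ⊓ N = D))), Subgroup.map_map] at h1
    rw [h1]
    conv_rhs => rw [← map_subgroupOf_eq_of_le (map_mono (hnormal hA₁N) : A₁.map π ≤ X),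
      Subgroup.map_map]
    congr 1
  set A₂ := A₁.map (MulAut.conj x).toMonoidHom with hA₂
  have hxD : D.map (MulAut.conj x).toMonoidHom = D := by
    exact Subgroup.mem_normalizer_iff_map_conj_eq.1 hx
  have hA₂N : A₂ ⊓ N = D := by
    conv_rhs => rw [← hxD, ← hA₁N]
    rw [map_inf _ _ _ (MulAut.conj x).injective, Thompson.map_conj_eq_self (M := N) x]
  have hA₂c : Nat.card A₂ = Nat.card B := (card_map_conj x A₁).trans hA₁c
  have hA₂π : A₂.map π = B.map π := by rw [hA₂, map_mk_conj, ← hxy']
  have hA₂B : A₂ ≤ N ⊔ B := le_sup_of_map_le N hA₂π.le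
  -- complements to `D`
  have hcompl : ∀ A : Subgroup G, A ⊓ N = D → ∃ A' : Subgroup G, D ⊔ A' = A ∧
      Nat.card A' = Nat.card (A.map π) := by
    intro A hA
    have hn : (D.subgroupOf A).Normal :=
      normal_subgroupOf_of_le_normalizer (hnormal hA)
    have hDA : D ≤ A := hA ▸ inf_le_left
    have hcDA : Nat.card (D.subgroupOf A) = Nat.card D :=
      Nat.card_congr (subgroupOfEquivOfLe hDA).toEquiv
    have hidx : (D.subgroupOf A).index = Nat.card (A.map π) := by
      refine Nat.eq_of_mul_eq_mul_left (Nat.card_pos (α := D.subgroupOf A)) ?_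
      rw [card_mul_index, hcDA, S3911.card_eq_map_mul N A, hA, mul_comm]
    obtain ⟨C, hC⟩ := exists_right_complement'_of_coprime (N := D.subgroupOf A) (by
      rw [hidx, hcDA, ← hA]; exact hcop A A)
    refine ⟨C.map A.subtype, ?_, ?_⟩
    · conv_lhs => rw [← map_subgroupOf_eq_of_le hDA]
      rw [← Subgroup.map_sup, hC.sup_eq_top, ← MonoidHom.range_eq_map, range_subtype]
    · rw [card_map_of_injective A.subtype_injective, ← IsComplement'.index_eq_card hC.symm, hidx]
  obtain ⟨A₃, hA₃, hA₃c⟩ := hcompl A₂ hA₂N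
  obtain ⟨B₃, hB₃, hB₃c⟩ := hcompl B rfl
  set K := N ⊓ normalizer (D : Set G) with hK
  have hA₃B : A₃ ≤ K ⊔ B₃ := by
    intro a ha
    have haA : a ∈ A₂ := hA₃.le (mem_sup_right ha)
    have h1 : a ∈ N ⊔ B₃ := by
      have h2 : a ∈ N ⊔ (D ⊔ B₃) := hB₃.symm ▸ hA₂B haA
      rwa [← sup_assoc, sup_eq_left.2 (inf_le_right : D ≤ N)] at h2
    rw [← SetLike.mem_coe, Subgroup.normal_mul] at h1
    obtain ⟨n, hn, b, hb, rfl⟩ := h1
    refine mul_mem (mem_sup_left ⟨hn, ?_⟩) (mem_sup_right hb)
    have hbD : b ∈ normalizer (D : Set G) := hnormal (rfl : B ⊓ N = D) (hB₃.le (mem_sup_right hb))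
    exact ((normalizer (D : Set G)).mul_mem_cancel_right hbD).1 (hnormal hA₂N haA)
  obtain ⟨k, hk, hk'⟩ := Coprime.exists_conj_eq (A := B₃) (K := K) (B := A₃)
    (Coprime.le_normalizer_inf le_normalizer_of_normal
      ((le_sup_right.trans hB₃.le).trans ((hnormal (rfl : B ⊓ N = D)).trans le_normalizer)))
    (by
      rw [hB₃c]
      exact ((hN.coprime_dvd_left (Subgroup.card_dvd_of_le inf_le_left)).coprime_dvd_right
        (by rw [Subgroup.index_eq_card]; exact card_subgroup_dvd_card _)).symm)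
    (Or.inl inferInstance) hA₃B (by rw [hA₃c, hB₃c, hA₂π])
  refine ⟨k * (x * g), ?_⟩
  have hkD : D.map (MulAut.conj k).toMonoidHom = D :=
    Subgroup.mem_normalizer_iff_map_conj_eq.1 hk.2
  rw [map_conj_mul, map_conj_mul, ← hA₁, ← hA₂, ← hA₃, Subgroup.map_sup, hkD,
    ← Coprime.conj_smul_eq_map k A₃, hk', hB₃]

end Cfsg.Agent.ConjAbelian
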