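import Cfsg.Agent.S3908
import Cfsg.Agent.S3911
import Cfsg.Agent.Coprime.Basic
import Cfsg.Agent.Coprime.SchurZassenhaus
import Cfsg.Agent.Core.Fitting

/-!
Solvable groups in which abelian subgroups of equal order are conjugate: the noncyclic Sylow
subgroups are elementary abelian or quaternion of order 8, and the property passes to quotients.
-/

set_option autoImplicit false

namespace Cfsg.Agent.ConjAbelian

open Subgroup
open scoped commutatorElement

universe u

variable {G : Type u} [Group G] [Finite G]

/-- Abelian subgroups of equal order are conjugate. -/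
abbrev Prop' (G : Type u) [Group G] : Prop := S3911.ConjClosed G

/-- A normal subgroup contains every element having the order of one of its elements. -/
theorem mem_of_orderOf (hB : Prop' G) {M : Subgroup G} [hM : M.Normal] {a m : G} (hm : m ∈ M)
    (h : orderOf m = orderOf a) : a ∈ M := by
  obtain ⟨g, hg⟩ := hB (zpowers m) (zpowers a) inferInstance inferInstance
    (by rw [Nat.card_zpowers, Nat.card_zpowers, h])
  obtain ⟨y, hy, rfl⟩ := hg.le (mem_zpowers a)
  exact hM.conj_mem y (zpowers_le.2 hm hy) g

/-- If all normal subgroups meeting a class of elements contain a subgroup `S` with nontrivial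
derived part in the class, the group is not solvable. -/
theorem no_class_in_derived [Group.IsSolvable G] {S : Subgroup G} {x : G}
    (hgen : ∀ N : Subgroup G, N.Normal → x ∈ N → S ≤ N) (hx : x ∈ ⁅S, S⁆) : x = 1 := by
  have hall : ∀ i, S ≤ derivedSeries G i := by
    intro i
    induction i with
    | zero => exact le_top
    | succ i ih =>
      refine hgen _ (derivedSeries_normal G (i + 1)) ?_
      rw [derivedSeries_succ]
      exact commutator_mono ih ih hx
  obtain ⟨n, hn⟩ := (inferInstance : Group.IsSolvable G)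
  have : x ∈ derivedSeries G n := hall n (Subgroup.commutator_le_self S hx)
  rwa [hn, mem_bot] at this

/-- A noncyclic Sylow subgroup for an odd prime is elementary abelian. -/
theorem elementary_of_odd (hB : Prop' G) [Group.IsSolvable G] {p : ℕ} [Fact p.Prime] (hp : p ≠ 2)
    (S : Sylow p G) (hnc : ¬ IsCyclic (S : Subgroup G)) :
    Cfsg.IsElementaryAbelian p (S : Subgroup G) := by
  have hpp : p.Prime := Fact.out
  have hexp := ((S3908.result hB).2 p hp S).resolve_left hnc
  refine ⟨?_, hexp⟩
  have hord : ∀ y ∈ (S : Subgroup G), y ≠ 1 → orderOf y = p := fun y hy hy1 =>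
    orderOf_eq_prime (hexp y hy) hy1
  have hbot : ⁅(S : Subgroup G), (S : Subgroup G)⁆ = ⊥ := by
    refine eq_bot_iff.2 fun x hx => mem_bot.2 ?_
    by_contra hx1
    refine hx1 (no_class_in_derived (fun N hN hxN y hy => ?_) hx)
    by_cases hy1 : y = 1
    · exact hy1 ▸ one_mem N
    · exact mem_of_orderOf hB hxN
        ((hord x (Subgroup.commutator_le_self _ hx) hx1).trans (hord y hy hy1).symm)
  exact ⟨⟨fun a b => Subtype.ext
    (mem_centralizer_iff.1 (commutator_eq_bot_iff_le_centralizer.1 hbot b.2) a a.2)⟩⟩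

/-- There are no quaternion Sylow subgroups of order at least 16. -/
theorem quaternion_le_one (hB : Prop' G) [Group.IsSolvable G] (S : Sylow 2 G) {k : ℕ}
    (e : (S : Subgroup G) ≃* QuaternionGroup (2 ^ k)) : k ≤ 1 := by
  by_contra hk
  obtain ⟨j, rfl⟩ : ∃ j, k = j + 2 := ⟨k - 2, by omega⟩
  set ι : QuaternionGroup (2 ^ (j + 2)) →* G := (S : Subgroup G).subtype.comp e.symm.toMonoidHom
    with hι
  have hinj : Function.Injective ι := (S : Subgroup G).subtype_injective.comp e.symm.injective
  have hord : ∀ q, orderOf (ι q) = orderOf q := fun q => orderOf_injective ι hinj q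
  let n := 2 ^ (j + 2)
  have : NeZero n := ⟨by positivity⟩
  set x : G := ι (QuaternionGroup.a ((2 ^ (j + 1) : ℕ) : ZMod (2 * n))) with hx
  have hxo : orderOf x = 4 := by
    rw [hx, hord, QuaternionGroup.orderOf_a, ZMod.val_natCast, Nat.mod_eq_of_lt]
    · show 2 * n / Nat.gcd (2 * n) (2 ^ (j + 1)) = 4
      have : 2 * n = 2 ^ (j + 1) * 4 := by show 2 * 2 ^ (j + 2) = _; ring
      rw [this, Nat.gcd_mul_right_left, Nat.mul_div_cancel_left _ (by positivity)]
    · show 2 ^ (j + 1) < 2 * 2 ^ (j + 2)
      calc 2 ^ (j + 1) < 2 ^ (j + 3) := Nat.pow_lt_pow_right (by norm_num) (by omega)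
        _ = _ := by ring
  have hgen : ∀ N : Subgroup G, N.Normal → x ∈ N → (S : Subgroup G) ≤ N := by
    intro N hN hxN
    have hxa : ∀ i, ι (QuaternionGroup.xa i) ∈ N := fun i =>
      mem_of_orderOf hB hxN (by rw [hxo, hord, QuaternionGroup.orderOf_xa])
    have hall : ∀ q, ι q ∈ N := by
      rintro (i | i)
      · have h := N.mul_mem (hxa ((n : ZMod (2 * n)))) (hxa i)
        rwa [← map_mul, QuaternionGroup.xa_mul_xa, show (n : ZMod (2 * n)) + i - n = i by ring] at h
      · exact hxa i
    intro y hy
    have := hall (e ⟨y, hy⟩)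
    simpa [hι] using this
  refine absurd (no_class_in_derived hgen ?_) (fun h => by rw [h, orderOf_one] at hxo; omega)
  set i : ZMod (2 * n) := ((2 ^ j : ℕ) : ZMod (2 * n)) with hi
  have hcomm : ⁅QuaternionGroup.a i, QuaternionGroup.xa (0 : ZMod (2 * n))⁆ =
      QuaternionGroup.a ((2 ^ (j + 1) : ℕ) : ZMod (2 * n)) := by
    rw [commutatorElement_def]
    simp only [hi, pow_succ, Nat.cast_mul, Nat.cast_ofNat]
    have h2n : (n : ZMod (2 * n)) * 2 = 0 := by
      rw [show (n : ZMod (2 * n)) * 2 = ((2 * n : ℕ) : ZMod (2 * n)) by push_cast; ring,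
        ZMod.natCast_self]
    show QuaternionGroup.a _ = _
    congr 1
    push_cast
    ring_nf
    rw [h2n, zero_add]
  rw [hx, ← hcomm, map_commutatorElement]
  exact commutator_mem_commutator (e.symm _).2 (e.symm _).2

/-- A noncyclic Sylow 2-subgroup is elementary abelian or of order 8 with one involution. -/
theorem two_cases (hB : Prop' G) [Group.IsSolvable G] (S : Sylow 2 G) :
    IsCyclic (S : Subgroup G) ∨ Cfsg.IsElementaryAbelian 2 (S : Subgroup G) ∨
      Nonempty ((S : Subgroup G) ≃* QuaternionGroup 2) := by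
  rcases (S3908.result hB).1 S with h | h | ⟨k, ⟨e⟩⟩
  · exact Or.inl h
  · exact Or.inr (Or.inl h)
  · rcases Nat.le_one_iff_eq_zero_or_eq_one.1 (quaternion_le_one hB S e) with rfl | rfl
    · rw [pow_zero] at e
      have : IsCyclic (QuaternionGroup 1) := QuaternionGroup.quaternionGroup_one_isCyclic
      exact Or.inl (isCyclic_of_surjective e.symm e.symm.surjective)
    · rw [pow_one] at e
      exact Or.inr (Or.inr ⟨e⟩)

end Cfsg.Agent.ConjAbelian
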