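import Cfsg.Agent.ConjAbelian.Structure
import Cfsg.Agent.ConjAbelian.AllConj

/-!
In a solvable group with conjugate abelian subgroups of equal order, all subgroups of equal order
are conjugate.
-/

set_option autoImplicit false

namespace Cfsg.Agent.ConjAbelian

open Subgroup
open scoped commutatorElement Pointwise

universe u

variable {G : Type u} [Group G] [Finite G]

theorem cyclic_sylow_subgroup {p : ℕ} [Fact p.Prime] (H : Subgroup G)
    (h : ∀ S : Sylow p G, IsCyclic (S : Subgroup G)) (P : Sylow p H) :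
    IsCyclic (P : Subgroup H) := by
  obtain ⟨S, hS⟩ := (P.isPGroup'.map H.subtype).exists_le_sylow
  have := h S
  have : IsCyclic ((P : Subgroup H).map H.subtype : Subgroup G) :=
    isCyclic_of_injective (Subgroup.inclusion hS) (inclusion_injective hS)
  exact isCyclic_of_injective ((P : Subgroup H).equivMapOfInjective H.subtype H.subtype_injective).toMonoidHom
    ((P : Subgroup H).equivMapOfInjective H.subtype H.subtype_injective).injective

omit [Finite G] in
/-- A group of order 4 in the quaternion group is cyclic, and its element squares are central. -/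
theorem quaternion_facts :
    (∀ x : QuaternionGroup 2, x ^ 4 = 1) ∧
    (∀ x : QuaternionGroup 2, x ^ 2 = 1 → x = 1 ∨ x = QuaternionGroup.a 2) ∧
    (∀ x : QuaternionGroup 2, ∃ u v : QuaternionGroup 2, x ^ 2 = u * v * u⁻¹ * v⁻¹) ∧
    (∀ x : QuaternionGroup 2, ∃ u v : QuaternionGroup 2, u ^ 2 ≠ 1 ∧ v ^ 2 ≠ 1 ∧ x = u * v) := by
  refine ⟨?_, ?_, ?_, ?_⟩ <;> decide

/-- A subgroup of order 4 of a quaternion group of order 8 is cyclic. -/
theorem exists_generator_four {T : Subgroup G} (e : T ≃* QuaternionGroup 2) {R : Subgroup G}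
    (hR : R ≤ T) (hc : Nat.card R = 4) : ∃ i ∈ R, orderOf i = 4 ∧ zpowers i = R := by
  obtain ⟨h4, h2, -, -⟩ := quaternion_facts
  obtain ⟨i, hi, hi2⟩ : ∃ i ∈ R, i ^ 2 ≠ 1 := by
    by_contra h
    push Not at h
    classical
    let f : R → Fin 2 := fun x => if (x : G) = 1 then 0 else 1
    have hf : Function.Injective f := by
      intro x y hxy
      have key : ∀ x : R, (x : G) ≠ 1 → e ⟨x, hR x.2⟩ = QuaternionGroup.a 2 := fun x hx =>
        (h2 _ (by rw [← map_pow, show (⟨(x : G), hR x.2⟩ : T) ^ 2 = 1 from Subtype.ext (h x x.2),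
          map_one])).resolve_left fun h1 => hx (congrArg Subtype.val ((map_eq_one_iff e e.injective).1 h1))
      by_cases hx : (x : G) = 1 <;> by_cases hy : (y : G) = 1
      · exact Subtype.ext (hx.trans hy.symm)
      · simp only [f, hx, hy, if_true, if_false] at hxy
        exact absurd hxy (by decide)
      · simp only [f, hx, hy, if_true, if_false] at hxy
        exact absurd hxy (by decide)
      · exact Subtype.ext (congrArg (fun z : T => (z : G))
          (e.injective ((key x hx).trans (key y hy).symm)))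
    have := Nat.card_le_card_of_injective f hf
    rw [hc, Nat.card_eq_fintype_card, Fintype.card_fin] at this
    omega
  have hi4 : orderOf i = 4 := by
    have h : i ^ 4 = 1 := by
      have := h4 (e ⟨i, hR hi⟩)
      rw [← map_pow, map_eq_one_iff e e.injective] at this
      exact congrArg Subtype.val this
    have := orderOf_eq_prime_pow (p := 2) (n := 1) (x := i) (by simpa using hi2) (by simpa using h)
    simpa using this
  exact ⟨i, hi, hi4, eq_of_le_of_card_ge (zpowers_le.2 hi) (by rw [hc, Nat.card_zpowers, hi4])⟩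

/-- A proper subgroup of a quaternion group of order 8 is cyclic. -/
theorem cyclic_of_lt_quaternion {T : Subgroup G} (e : T ≃* QuaternionGroup 2) {R : Subgroup G}
    (hR : R < T) : IsCyclic R := by
  have h8 : Nat.card T = 2 ^ 3 := by
    rw [Nat.card_congr e.toEquiv, Nat.card_eq_fintype_card, QuaternionGroup.card]; norm_num
  obtain ⟨k, hk, hk'⟩ := (Nat.dvd_prime_pow Nat.prime_two).1 (h8 ▸ card_dvd_of_le hR.le)
  interval_cases k
  · rw [pow_zero, Subgroup.card_eq_one] at hk'
    rw [hk']; infer_instance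
  · exact isCyclic_of_prime_card (p := 2) hk'
  · obtain ⟨i, -, -, hzi⟩ := exists_generator_four e hR.le hk'
    exact hzi ▸ inferInstance
  · exact absurd (eq_of_le_of_card_ge hR.le (by rw [hk', h8])) hR.ne

/-- All cyclic subgroups of order 4 are conjugate in the normalizer of `D`, modulo `F`. -/
theorem conj_four (hB : Prop' G) [Group.IsSolvable G] {F : Subgroup G} [F.Normal]
    (hFc : IsMulCommutative F)
    (hFhall : (Nat.card F).Coprime F.index)
    (hcore : ∀ q : ℕ, q.Prime → Cfsg.pCore q G ≠ ⊥ → Cfsg.IsElementaryAbelian q (Cfsg.pCore q G))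
    (hF : F = Cfsg.fittingSubgroup G)
    (P : Sylow 2 G) (e : (P : Subgroup G) ≃* QuaternionGroup 2) (hPF : ((P : Subgroup G) ⊔ F).Normal)
    {D : Subgroup G} (hDF : D ≤ F) (hPD : (P : Subgroup G) ≤ normalizer (D : Set G))
    {i j : G} (hi : i ∈ (P : Subgroup G)) (hj : j ∈ (P : Subgroup G)) (hi4 : orderOf i = 4)
    (hj4 : orderOf j = 4) :
    ∃ g ∈ normalizer (D : Set G), ((zpowers j).map (QuotientGroup.mk' F)) =
      ((zpowers i).map (QuotientGroup.mk' F)).map (MulAut.conj (QuotientGroup.mk' F g)).toMonoidHom := by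
  have h2F : ¬ 2 ∣ Nat.card F := by
    intro h
    have h8 : 2 ^ 3 ∣ Nat.card G := by
      have := card_subgroup_dvd_card (P : Subgroup G)
      rwa [Nat.card_congr e.toEquiv, Nat.card_eq_fintype_card, QuaternionGroup.card] at this
    have : Fact (Nat.Prime 2) := ⟨Nat.prime_two⟩
    obtain ⟨x, hx⟩ := exists_prime_orderOf_dvd_card' (G := F) 2 h
    have hxP : IsPGroup 2 (zpowers (x : G)) := IsPGroup.of_card (n := 1)
      (by rw [Nat.card_zpowers, orderOf_coe, hx, pow_one])
    have hxO := le_pCore_of_le_fitting hxP (hF ▸ zpowers_le.2 x.2) (mem_zpowers _)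
    have hne : Cfsg.pCore 2 G ≠ ⊥ := fun h0 => by
      rw [h0, mem_bot, OneMemClass.coe_eq_one] at hxO
      rw [hxO, orderOf_one] at hx; omega
    have hea := hcore 2 Nat.prime_two hne
    have hle : F ⊓ (P : Subgroup G) = (P : Subgroup G) ⊓ F := inf_comm _ _
    have hidx : ¬ 2 ∣ F.index := fun h' =>
      Nat.not_coprime_of_dvd_of_dvd (by norm_num) h h' hFhall
    have hPF' : (P : Subgroup G) ≤ F := by
      intro y hy
      rw [← QuotientGroup.eq_one_iff]
      obtain ⟨n, hn⟩ := IsPGroup.iff_orderOf.1 P.isPGroup' ⟨y, hy⟩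
      rw [Subgroup.orderOf_mk] at hn
      refine orderOf_eq_one_iff.1 (Nat.eq_one_of_dvd_coprimes
        (((Nat.prime_two.coprime_iff_not_dvd.2 hidx).pow_left n))
        (hn ▸ orderOf_map_dvd (QuotientGroup.mk' F) y)
        (by rw [Subgroup.index_eq_card]; exact _root_.orderOf_dvd_natCard _))
    have hc : ∀ u v : (P : Subgroup G), u * v = v * u := fun u v =>
      Subtype.ext (commute_mem hFc (hPF' u.2) (hPF' v.2))
    have := hc (e.symm (QuaternionGroup.a 1)) (e.symm (QuaternionGroup.xa 0))
    rw [← map_mul, ← map_mul, e.symm.injective.eq_iff] at this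
    exact absurd this (by decide)
  have hPFbot : (P : Subgroup G) ⊓ F = ⊥ := by
    obtain ⟨n, hn⟩ := IsPGroup.iff_card.1 P.isPGroup'
    exact Coprime.inf_eq_bot_of_coprime
      (hn ▸ (Nat.prime_two.coprime_iff_not_dvd.2 h2F).pow_left n)
  have hFD : F ≤ normalizer (D : Set G) := by
    refine le_trans (fun x hx => ?_) (centralizer_le_normalizer _)
    exact mem_centralizer_iff.2 fun y hy => commute_mem hFc (hDF hy) hx
  set W := D ⊓ centralizer ((P : Subgroup G) : Set G) with hW
  -- `D` is the join of a normal subgroup and `W`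
  have hDW : D ≤ D.normalCore ⊔ W := by
    refine Coprime.le_of_forall_sylow_le fun q hqp => ?_
    have hqfact := Fact.mk hqp
    let S : Sylow q D := default
    refine ⟨S, ?_⟩
    have hSD : (S : Subgroup D).map D.subtype ≤ D := map_subtype_le _
    have hSO : (S : Subgroup D).map D.subtype ≤ Cfsg.pCore q G :=
      le_pCore_of_le_fitting (S.isPGroup'.map _) (hF ▸ hSD.trans hDF)
    refine (le_inf hSD hSO).trans ?_
    set M := Cfsg.pCore q G with hM
    have hMn : M.Normal := Core.pCore_normal
    by_cases hMD : M ≤ D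
    · exact (inf_le_right.trans (normal_le_normalCore.2 hMD)).trans le_sup_left
    by_cases hLb : D ⊓ M = ⊥
    · rw [hLb]; exact bot_le
    refine le_trans (le_inf inf_le_left ?_) le_sup_right
    rw [le_centralizer_iff]
    have hMne : M ≠ ⊥ := fun h0 => hLb (le_bot_iff.1 (inf_le_right.trans h0.le))
    have hMea := hcore q hqp hMne
    have hMp : IsPGroup q M := fun x => ⟨1, Subtype.ext (by simpa using hMea.2 x x.2)⟩
    obtain ⟨d, hd⟩ := IsPGroup.iff_card.1 (hMp.to_le (inf_le_right : D ⊓ M ≤ M))
    have hdt : ∀ V : Subgroup G, V ≤ M → Nat.card V = q ^ d → V ≠ M := fun V hV hc h0 => hMD (by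
      have : D ⊓ M = M := eq_of_le_of_card_ge inf_le_right (by rw [hd, ← hc, h0])
      exact this ▸ inf_le_left)
    have hnorm : ∀ V : Subgroup G, V ≤ M → Nat.card V = q ^ d →
        (P : Subgroup G) ≤ normalizer (V : Set G) := by
      intro V hV hVc
      have hcomm : ∀ V ≤ M, IsMulCommutative V := fun V hV =>
        of_forall_commute fun x hx y hy => commute_mem hMea.1 (hV hx) (hV hy)
      obtain ⟨g, hg⟩ := hB (D ⊓ M) V (hcomm _ inf_le_right) (hcomm _ hV) (by rw [hd, hVc])
      have hall : (P : Subgroup G) ⊔ F ≤ normalizer ((D ⊓ M : Subgroup G) : Set G) :=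
        sup_le (Coprime.le_normalizer_inf hPD le_normalizer_of_normal)
          (Coprime.le_normalizer_inf hFD le_normalizer_of_normal)
      rw [hg]
      intro y hy
      have h1 : g⁻¹ * y * g⁻¹⁻¹ ∈ (P : Subgroup G) ⊔ F :=
        hPF.conj_mem y (mem_sup_left hy) g⁻¹
      refine le_normalizer_map _ ⟨g⁻¹ * y * g⁻¹⁻¹, hall h1, ?_⟩
      simp [mul_assoc]
    -- descend to cyclic subgroups
    have hdown : ∀ k c : ℕ, c + k = d → ∀ V : Subgroup G, V ≤ M → Nat.card V = q ^ c →
        (P : Subgroup G) ≤ normalizer (V : Set G) := by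
      intro k
      induction k with
      | zero => intro c hc V hV hVc; exact hnorm V hV (by rw [hVc, ← hc, add_zero])
      | succ k ih =>
        intro c hc V hV hVc
        have hmk : ∀ x ∈ M, x ∉ V → Nat.card (V ⊔ zpowers x : Subgroup G) = q ^ (c + 1) := by
          intro x hx hxV
          have hxo : orderOf x = q := orderOf_eq_prime (hMea.2 x hx) fun h0 => hxV (h0 ▸ one_mem V)
          have := Thompson.card_sup_mul_card_inf_of_comm (X := V) (Y := zpowers x)
            (fun y hy => mem_centralizer_iff.2 fun w hw =>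
              commute_mem hMea.1 (zpowers_le.2 hx hw) (hV hy))
          have hinf : V ⊓ zpowers x = ⊥ := by
            by_contra hne
            refine hxV ?_
            have h2 := card_dvd_of_le (inf_le_right : V ⊓ zpowers x ≤ zpowers x)
            rw [Nat.card_zpowers, hxo] at h2
            rcases (Nat.dvd_prime hqp).1 h2 with h3 | h3
            · exact absurd (Subgroup.card_eq_one.1 h3) hne
            · exact ((eq_of_le_of_card_ge inf_le_right (by
                rw [h3, Nat.card_zpowers, hxo])).ge (mem_zpowers x)).1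
          rw [hinf, card_bot, mul_one, hVc, Nat.card_zpowers, hxo] at this
          rw [this, pow_succ]
        have hexists : ∀ V' : Subgroup G, V' ≤ M → (∃ c', c' ≤ d ∧ Nat.card V' = q ^ c') →
            ∃ x ∈ M, x ∉ V' := by
          rintro V' hV' ⟨c', hc', hV'c⟩
          by_contra h
          push Not at h
          obtain ⟨t, ht⟩ := IsPGroup.iff_card.1 hMp
          have h1 : V' = M := le_antisymm hV' h
          rw [h1, ht] at hV'c
          have := Nat.pow_right_injective hqp.two_le hV'c
          have h2 := card_dvd_of_le (inf_le_right : D ⊓ M ≤ M)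
          rw [hd, ht, Nat.pow_dvd_pow_iff_le_right hqp.one_lt] at h2
          exact hdt M le_rfl (by rw [ht, this, show c' = d by omega]) rfl
        obtain ⟨x, hx, hxV⟩ := hexists V hV ⟨c, by omega, hVc⟩
        obtain ⟨y, hy, hyV⟩ := hexists (V ⊔ zpowers x) (sup_le hV (zpowers_le.2 hx))
          ⟨c + 1, by omega, hmk x hx hxV⟩
        have hyV' : y ∉ V := fun h => hyV (mem_sup_left h)
        have hinf : (V ⊔ zpowers x) ⊓ (V ⊔ zpowers y) = V := by
          refine le_antisymm ?_ (le_inf le_sup_left le_sup_left)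
          intro w hw
          by_contra hwV
          refine hyV ?_
          have h1 : V ⊔ zpowers w ≤ V ⊔ zpowers x := sup_le le_sup_left (zpowers_le.2 hw.1)
          have h2 : V ⊔ zpowers w ≤ V ⊔ zpowers y := sup_le le_sup_left (zpowers_le.2 hw.2)
          have hwM : w ∈ M := sup_le hV (zpowers_le.2 hx) hw.1
          have e1 := eq_of_le_of_card_ge h1 (by rw [hmk x hx hxV, hmk w hwM hwV])
          have e2 := eq_of_le_of_card_ge h2 (by rw [hmk y hy hyV', hmk w hwM hwV])
          exact e1 ▸ e2.ge (mem_sup_right (mem_zpowers y))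
        rw [← hinf]
        exact Coprime.le_normalizer_inf
          (ih (c + 1) (by omega) _ (sup_le hV (zpowers_le.2 hx)) (hmk x hx hxV))
          (ih (c + 1) (by omega) _ (sup_le hV (zpowers_le.2 hy)) (hmk y hy hyV'))
    have hd1 : 1 ≤ d := by
      by_contra h0
      rw [show d = 0 by omega, pow_zero, Subgroup.card_eq_one] at hd
      exact hLb hd
    have hline : ∀ y ∈ (P : Subgroup G), ∀ a ∈ M, y * a * y⁻¹ ∈ zpowers a := by
      intro y hy a ha
      by_cases ha1 : a = 1
      · simp [ha1]
      have hao : orderOf a = q := orderOf_eq_prime (hMea.2 a ha) ha1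
      exact (mem_normalizer_iff.1 (hdown (d - 1) 1 (by omega) (zpowers a) (zpowers_le.2 ha)
        (by rw [Nat.card_zpowers, hao, pow_one]) hy) a).1 (mem_zpowers a)
    -- squares act trivially
    have hsq : ∀ y ∈ (P : Subgroup G), ∀ a ∈ M, y * (y * a * y⁻¹) * y⁻¹ = a := by
      intro y hy a ha
      obtain ⟨u, v, huv⟩ := quaternion_facts.2.2.1 (e ⟨y, hy⟩)
      set u' : G := ((e.symm u : (P : Subgroup G)) : G) with hu'
      set v' : G := ((e.symm v : (P : Subgroup G)) : G) with hv'
      have hy2 : y ^ 2 = u' * v' * u'⁻¹ * v'⁻¹ := by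
        have := congrArg (fun q => ((e.symm q : (P : Subgroup G)) : G)) huv
        simpa [hu', hv'] using this
      have hcom : ∀ y₁ ∈ (P : Subgroup G), ∀ y₂ ∈ (P : Subgroup G), ∀ a ∈ M,
          y₁ * (y₂ * a * y₂⁻¹) * y₁⁻¹ = y₂ * (y₁ * a * y₁⁻¹) * y₂⁻¹ := by
        intro y₁ h₁ y₂ h₂ a ha
        obtain ⟨k, hk⟩ := hline y₁ h₁ a ha
        obtain ⟨l, hl⟩ := hline y₂ h₂ a ha
        replace hk : a ^ k = y₁ * a * y₁⁻¹ := hk
        replace hl : a ^ l = y₂ * a * y₂⁻¹ := hl
        rw [← hl, ← hk, ← conj_zpow, ← conj_zpow, ← hk, ← hl, ← zpow_mul, ← zpow_mul, mul_comm]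
      calc y * (y * a * y⁻¹) * y⁻¹ = y ^ 2 * a * (y ^ 2)⁻¹ := by rw [sq]; group
        _ = u' * (v' * (u'⁻¹ * (v'⁻¹ * a * v'⁻¹⁻¹) * u'⁻¹⁻¹) * v'⁻¹) * u'⁻¹ := by
            rw [hy2]; group
        _ = u' * (v' * (v'⁻¹ * (u'⁻¹ * a * u'⁻¹⁻¹) * v'⁻¹⁻¹) * v'⁻¹) * u'⁻¹ := by
            rw [hcom _ (inv_mem (e.symm u).2) _ (inv_mem (e.symm v).2) a ha]
        _ = a := by group
    have hq2 : q ≠ 2 := by
      rintro rfl
      refine h2F ((?_ : 2 ∣ Nat.card (D ⊓ M : Subgroup G)).trans
        (card_dvd_of_le (inf_le_left.trans hDF)))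
      rw [hd]
      exact dvd_pow_self 2 (by omega)
    have hne2 : ∀ a ∈ M, a = a⁻¹ → a = 1 := by
      intro a ha h
      have h1 : a ^ 2 = 1 := by rw [sq]; nth_rewrite 2 [h]; exact mul_inv_cancel a
      have hg : a ^ Nat.gcd q 2 = 1 := pow_gcd_eq_one.2 ⟨hMea.2 a ha, h1⟩
      rwa [(Nat.coprime_primes hqp Nat.prime_two).2 hq2, pow_one] at hg
    have hdich : ∀ y ∈ (P : Subgroup G), (∀ a ∈ M, y * a * y⁻¹ = a) ∨ (∀ a ∈ M, y * a * y⁻¹ = a⁻¹) := by
      intro y hy
      have hone : ∀ b ∈ M, y * b * y⁻¹ = b ∨ y * b * y⁻¹ = b⁻¹ := by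
        intro b hb
        set c := y * b * y⁻¹ with hc
        have hcb : c ∈ zpowers b := hline y hy b hb
        have hcM : c ∈ M := hMn.conj_mem b hb y
        have hf : y * (c * b) * y⁻¹ = c * b := by
          rw [show y * (c * b) * y⁻¹ = (y * c * y⁻¹) * (y * b * y⁻¹) by group, hsq y hy b hb,
            ← hc, commute_mem hMea.1 hb hcM]
        by_cases hf1 : c * b = 1
        · exact Or.inr (eq_inv_of_mul_eq_one_left hf1)
        · left
          have hcbz : c * b ∈ zpowers b := mul_mem hcb (mem_zpowers b)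
          have hb1 : b ≠ 1 := fun h0 => hf1 (by rw [hc, h0]; group)
          have heq : zpowers (c * b) = zpowers b := eq_of_le_of_card_ge (zpowers_le.2 hcbz) (by
            rw [Nat.card_zpowers, Nat.card_zpowers, orderOf_eq_prime (hMea.2 b hb) hb1,
              orderOf_eq_prime (hMea.2 _ (mul_mem hcM hb)) hf1])
          obtain ⟨n, hn⟩ := heq.ge (mem_zpowers b)
          replace hn : (c * b) ^ n = b := hn
          calc c = y * b * y⁻¹ := hc
            _ = b := by
                conv_lhs => rw [← hn]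
                rw [← conj_zpow, hf, hn]
      by_contra hno
      push Not at hno
      obtain ⟨⟨b, hb, hb'⟩, a, ha, ha'⟩ := hno
      have hbi := (hone b hb).resolve_left hb'
      have haf := (hone a ha).resolve_right ha'
      have hab : y * (a * b) * y⁻¹ = a * b⁻¹ := by
        rw [show y * (a * b) * y⁻¹ = (y * a * y⁻¹) * (y * b * y⁻¹) by group, hbi, haf]
      rcases hone (a * b) (mul_mem ha hb) with h | h
      · rw [hab, mul_right_inj] at h
        exact hb' (hbi.trans h)
      · rw [hab, mul_inv_rev, commute_mem hMea.1 (inv_mem hb) (inv_mem ha), mul_left_inj] at h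
        exact ha' (haf.trans h)
    intro y hy
    -- some element of order 4 centralizes `M`
    obtain ⟨w, hwP, hw4, hwC⟩ : ∃ w ∈ (P : Subgroup G), orderOf w = 4 ∧ w ∈ centralizer (M : Set G) := by
      have h4 : ∀ u : QuaternionGroup 2, u ^ 2 ≠ 1 → orderOf ((e.symm u : (P : Subgroup G)) : G) = 4 := by
        intro u hu
        rw [orderOf_coe, MulEquiv.orderOf_eq]
        have := orderOf_eq_prime_pow (p := 2) (n := 1) (x := u) (by simpa using hu)
          (by simpa using quaternion_facts.1 u)
        simpa using this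
      have hC : ∀ u : (P : Subgroup G), (∀ a ∈ M, (u : G) * a * (u : G)⁻¹ = a) →
          (u : G) ∈ centralizer (M : Set G) := fun u hu => mem_centralizer_iff.2 fun a ha =>
        (mul_inv_eq_iff_eq_mul.1 (hu a ha)).symm
      set A := e.symm (QuaternionGroup.a 1)
      set B := e.symm (QuaternionGroup.xa 0)
      rcases hdich A A.2 with hA | hA
      · exact ⟨_, A.2, h4 _ (by decide), hC A hA⟩
      rcases hdich B B.2 with hB' | hB'
      · exact ⟨_, B.2, h4 _ (by decide), hC B hB'⟩
      refine ⟨_, (e.symm (QuaternionGroup.a 1 * QuaternionGroup.xa 0)).2, h4 _ (by decide), hC _ ?_⟩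
      intro a ha
      rw [map_mul, Subgroup.coe_mul]
      calc (A : G) * (B : G) * a * ((A : G) * (B : G))⁻¹ =
            (A : G) * ((B : G) * a * (B : G)⁻¹) * (A : G)⁻¹ := by group
        _ = a := by rw [hB' a ha, hA a⁻¹ (inv_mem ha), inv_inv]
    have hall : ∀ u : (P : Subgroup G), (e u) ^ 2 ≠ 1 → (u : G) ∈ centralizer (M : Set G) := by
      intro u hu
      refine mem_of_orderOf hB hwC (hw4.trans ?_)
      rw [orderOf_coe, ← MulEquiv.orderOf_eq e]
      have := orderOf_eq_prime_pow (p := 2) (n := 1) (x := e u) (by simpa using hu)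
        (by simpa using quaternion_facts.1 (e u))
      simpa using this.symm
    obtain ⟨u, v, hu, hv, huv⟩ := quaternion_facts.2.2.2 (e ⟨y, hy⟩)
    have hyM : y ∈ centralizer (M : Set G) := by
      have := mul_mem (hall (e.symm u) (by rwa [e.apply_symm_apply]))
        (hall (e.symm v) (by rwa [e.apply_symm_apply]))
      rwa [← Subgroup.coe_mul, ← map_mul, ← huv, e.symm_apply_apply] at this
    exact centralizer_le (inf_le_right : D ⊓ M ≤ M) hyM
  -- conjugate the two abelian subgroups
  have hWF : W ≤ F := inf_le_left.trans hDF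
  have hsplit : ∀ i ∈ (P : Subgroup G), IsMulCommutative (W ⊔ zpowers i : Subgroup G) ∧
      Nat.card (W ⊔ zpowers i : Subgroup G) = Nat.card W * orderOf i ∧
      (W ⊔ zpowers i) ⊓ F = W := by
    intro i hi
    have hc : zpowers i ≤ centralizer (W : Set G) :=
      (zpowers_le.2 hi).trans (le_centralizer_iff.1 inf_le_right)
    have hdisj : W ⊓ zpowers i = ⊥ :=
      le_bot_iff.1 ((le_inf (inf_le_right.trans (zpowers_le.2 hi)) (inf_le_left.trans hWF)).trans
        hPFbot.le)
    refine ⟨Fusion.isMulCommutative_sup_of_le_centralizer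
      (of_forall_commute fun x hx y hy => commute_mem hFc (hWF hx) (hWF hy)) inferInstance
      (fun a ha b hb => (mem_centralizer_iff.1 (hc hb) a ha).symm), ?_, ?_⟩
    · have := Thompson.card_sup_mul_card_inf_of_comm (le_centralizer_iff.1 hc)
      rwa [hdisj, card_bot, mul_one, Nat.card_zpowers] at this
    · refine le_antisymm (fun x hx => ?_) (le_inf le_sup_left hWF)
      have hx' : x ∈ ((W ⊔ zpowers i : Subgroup G) : Set G) := hx.1
      rw [coe_mul_of_right_le_normalizer_left _ _ (hc.trans (centralizer_le_normalizer _))] at hx'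
      obtain ⟨w, hw, u, hu, rfl⟩ := hx'
      have : u = 1 := mem_bot.1 (hPFbot ▸ ⟨zpowers_le.2 hi hu,
        (F.mul_mem_cancel_left (hWF hw)).1 hx.2⟩)
      simpa [this] using hw
  obtain ⟨hci, hni, hFi⟩ := hsplit i hi
  obtain ⟨hcj, hnj, hFj⟩ := hsplit j hj
  obtain ⟨g, hg⟩ := hB _ _ hci hcj (by rw [hni, hnj, hi4, hj4])
  have hWg : W.map (MulAut.conj g).toMonoidHom = W := by
    conv_lhs => rw [← hFi]
    rw [map_inf _ _ _ (MulAut.conj g).injective, ← hg, Thompson.map_conj_eq_self (M := F) g, hFj]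
  have hDeq : D = D.normalCore ⊔ W := le_antisymm hDW (sup_le (normalCore_le D) inf_le_left)
  refine ⟨g, Subgroup.mem_normalizer_iff_map_conj_eq.2 ?_, ?_⟩
  · show D.map (MulAut.conj g).toMonoidHom = D
    rw [hDeq, Subgroup.map_sup, hWg, Thompson.map_conj_eq_self (M := D.normalCore) g]
  · have hW0 : W.map (QuotientGroup.mk' F) = ⊥ :=
      (Subgroup.map_eq_bot_iff W).2 (hWF.trans (QuotientGroup.ker_mk' F).ge)
    have h1 := congrArg (Subgroup.map (QuotientGroup.mk' F)) hg
    rw [map_mk_conj, Subgroup.map_sup, Subgroup.map_sup, hW0, bot_sup_eq, bot_sup_eq] at h1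
    exact h1

end Cfsg.Agent.ConjAbelian
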