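import Cfsg.Agent.ConjAbelian.Basic
import Cfsg.Agent.S3909

/-!
In a solvable group, conjugacy of abelian subgroups of equal order passes to quotients.
-/

set_option autoImplicit false

namespace Cfsg.Agent.ConjAbelian

open Subgroup
open scoped commutatorElement Pointwise

universe u

variable {G : Type u} [Group G] [Finite G]

omit [Finite G] in
theorem isMulCommutative_map' {G' : Type*} [Group G'] {A : Subgroup G} (h : IsMulCommutative A)
    (f : G →* G') : IsMulCommutative (A.map f) :=
  haveI := h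
  Subgroup.map_isMulCommutative A f

omit [Finite G] in
theorem of_forall_commute {H : Subgroup G} (h : ∀ x ∈ H, ∀ y ∈ H, x * y = y * x) :
    IsMulCommutative H :=
  ⟨⟨fun x y => Subtype.ext (h x x.2 y y.2)⟩⟩

omit [Finite G] in
theorem commute_mem {H : Subgroup G} (h : IsMulCommutative H) {x y : G} (hx : x ∈ H) (hy : y ∈ H) :
    x * y = y * x :=
  congrArg Subtype.val (h.is_comm.comm ⟨x, hx⟩ ⟨y, hy⟩)

omit [Finite G] in
theorem Prop'.map_equiv {G' : Type u} [Group G'] (hB : Prop' G) (e : G ≃* G') : Prop' G' := by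
  intro A B hA hB' hcard
  obtain ⟨g, hg⟩ := hB (A.map e.symm.toMonoidHom) (B.map e.symm.toMonoidHom)
    (isMulCommutative_map' hA _) (isMulCommutative_map' hB' _) (by
      rw [card_map_of_injective (f := e.symm.toMonoidHom) e.symm.injective,
        card_map_of_injective (f := e.symm.toMonoidHom) e.symm.injective, hcard])
  refine ⟨e g, ?_⟩
  have h1 := congrArg (Subgroup.map e.toMonoidHom) hg
  rw [Subgroup.map_map, Subgroup.map_map, Subgroup.map_map] at h1
  have e1 : e.toMonoidHom.comp e.symm.toMonoidHom = MonoidHom.id G' :=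
    MonoidHom.ext e.apply_symm_apply
  have e2 : (e.toMonoidHom.comp (MulAut.conj g).toMonoidHom).comp e.symm.toMonoidHom =
      (MulAut.conj (e g)).toMonoidHom := by
    ext x; simp
  rwa [e1, Subgroup.map_id, e2] at h1

/-- A minimal normal subgroup inside a normal subgroup is elementary abelian. -/
theorem exists_minimal [Group.IsSolvable G] {M : Subgroup G} [M.Normal] (hne : M ≠ ⊥) :
    ∃ N : Subgroup G, N.Normal ∧ N ≤ M ∧ N ≠ ⊥ ∧
      (∀ K : Subgroup G, K.Normal → K ≤ N → K = ⊥ ∨ K = N) ∧
      ∃ q : ℕ, q.Prime ∧ Cfsg.IsElementaryAbelian q N := by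
  obtain ⟨N, ⟨hNn, hNM, hNne⟩, hmin⟩ := exists_minimal_of_wellFoundedLT
    (fun N : Subgroup G => N.Normal ∧ N ≤ M ∧ N ≠ ⊥) ⟨M, inferInstance, le_rfl, hne⟩
  have hmin' : ∀ K : Subgroup G, K.Normal → K ≤ N → K = ⊥ ∨ K = N := fun K hK hKN =>
    (em (K = ⊥)).imp id fun h => le_antisymm hKN (hmin ⟨hK, hKN.trans hNM, h⟩ hKN)
  refine ⟨N, hNn, hNM, hNne, hmin', ?_⟩
  obtain ⟨N', hN'n, hN'c, hN'N, hN'ne⟩ :=
    Coprime.exists_minimal_normal_abelian N hNne inferInstance
  have hNN' : N' = N := (hmin' N' hN'n hN'N).resolve_left hN'ne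
  subst hNN'
  obtain ⟨q, hq, hqN⟩ := Nat.exists_prime_and_dvd
    (show Nat.card N' ≠ 1 from fun h => hNne (Subgroup.card_eq_one.1 h))
  refine ⟨q, hq, hN'c, fun x hx => ?_⟩
  let E : Subgroup G :=
    { carrier := {y | y ∈ N' ∧ y ^ q = 1}
      one_mem' := ⟨one_mem _, one_pow _⟩
      mul_mem' := fun {a b} ha hb => ⟨mul_mem ha.1 hb.1, by
        rw [(show Commute a b from commute_mem hN'c ha.1 hb.1).mul_pow, ha.2, hb.2, mul_one]⟩
      inv_mem' := fun {a} ha => ⟨inv_mem ha.1, by rw [inv_pow, ha.2, inv_one]⟩ }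
  have hEn : E.Normal := ⟨fun y hy g => ⟨hN'n.conj_mem y hy.1 g, by
    rw [conj_pow, hy.2, mul_one, mul_inv_cancel]⟩⟩
  have := Fact.mk hq
  obtain ⟨y, hy⟩ := exists_prime_orderOf_dvd_card' q hqN
  have hEne : E ≠ ⊥ := fun h => by
    have h1 : (y : G) ∈ E := ⟨y.2, by
      rw [← SubmonoidClass.coe_pow, ← hy, pow_orderOf_eq_one]; rfl⟩
    rw [h, mem_bot, OneMemClass.coe_eq_one] at h1
    rw [h1, orderOf_one] at hy
    exact hq.ne_one hy.symm
  exact (((hmin' E hEn fun y hy => hy.1).resolve_left hEne).ge hx).2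

/-- Complements: abelian subgroups of the quotient by a normal Hall subgroup lift. -/
theorem quotient_of_coprime (hB : Prop' G) (M : Subgroup G) [M.Normal]
    (hM : (Nat.card M).Coprime M.index) : Prop' (G ⧸ M) := by
  have lift : ∀ A : Subgroup (G ⧸ M), IsMulCommutative A → ∃ L : Subgroup G,
      IsMulCommutative L ∧ L.map (QuotientGroup.mk' M) = A ∧ Nat.card L = Nat.card A := by
    intro A hA
    set X := A.comap (QuotientGroup.mk' M) with hX
    have hMX : M ≤ X := fun x hx => by
      show QuotientGroup.mk' M x ∈ A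
      rw [show QuotientGroup.mk' M x = 1 from (QuotientGroup.eq_one_iff x).2 hx]
      exact one_mem A
    have hcop : (Nat.card (M.subgroupOf X)).Coprime (M.subgroupOf X).index := by
      rw [Nat.card_congr (subgroupOfEquivOfLe hMX).toEquiv]
      exact hM.coprime_dvd_right (relIndex_dvd_index_of_normal M X)
    obtain ⟨C, hC⟩ := exists_right_complement'_of_coprime hcop
    set L := C.map X.subtype with hL
    have hLX : L ≤ X := map_subtype_le C
    have hLM : L ⊓ M = ⊥ := by
      refine eq_bot_iff.2 fun x hx => ?_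
      obtain ⟨c, hc, rfl⟩ := hx.1
      have := Subgroup.disjoint_def.1 hC.disjoint (show c ∈ M.subgroupOf X from hx.2) hc
      simp [this]
    have hsup : M ⊔ L = X := by
      rw [← subgroupOf_map_subtype M X |>.trans (inf_eq_left.2 hMX), hL, ← Subgroup.map_sup,
        hC.sup_eq_top, ← MonoidHom.range_eq_map, range_subtype]
    have hmap : L.map (QuotientGroup.mk' M) = A := by
      have := congrArg (Subgroup.map (QuotientGroup.mk' M)) hsup
      rwa [Subgroup.map_sup, (Subgroup.map_eq_bot_iff M).2 (QuotientGroup.ker_mk' M).ge,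
        bot_sup_eq, hX, map_comap_eq_self_of_surjective (QuotientGroup.mk'_surjective M)] at this
    refine ⟨L, of_forall_commute fun x hx y hy => ?_, hmap, ?_⟩
    · refine commutatorElement_eq_one_iff_mul_comm.1 (mem_bot.1 (hLM ▸ ⟨?_, ?_⟩))
      · exact Subgroup.commutator_le_self L (commutator_mem_commutator hx hy)
      · show ⁅x, y⁆ ∈ M
        rw [← QuotientGroup.eq_one_iff]
        show QuotientGroup.mk' M ⁅x, y⁆ = 1
        rw [map_commutatorElement, commutatorElement_eq_one_iff_mul_comm]
        exact commute_mem hA (hmap ▸ mem_map_of_mem _ hx) (hmap ▸ mem_map_of_mem _ hy)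
    · rw [S3911.card_eq_map_mul M L, hmap, hLM, card_bot, mul_one]
  intro A B hA hB' hcard
  obtain ⟨L, hL, hLA, hLc⟩ := lift A hA
  obtain ⟨K, hK, hKB, hKc⟩ := lift B hB'
  obtain ⟨g, hg⟩ := hB L K hL hK (hLc.trans (hcard.trans hKc.symm))
  refine ⟨QuotientGroup.mk' M g, ?_⟩
  rw [← hKB, ← hLA, hg, Subgroup.map_map, Subgroup.map_map]
  congr 1

/-- The quotient by a central subgroup of order 2. -/
theorem quotient_of_two (hB : Prop' G) [Group.IsSolvable G] (M : Subgroup G) [M.Normal]
    (hM : Nat.card M = 2) (hidx : 2 ∣ M.index) : Prop' (G ⧸ M) := by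
  have : Fact (Nat.Prime 2) := ⟨Nat.prime_two⟩
  obtain ⟨z, hz⟩ := exists_prime_orderOf_dvd_card' (G := M) 2 hM.symm.dvd
  have hz' : orderOf (z : G) = 2 := by rw [orderOf_coe, hz]
  have hMz : ∀ m ∈ M, m = 1 ∨ m = (z : G) := by
    intro m hm
    have hz1 : z ≠ 1 := fun h => by rw [h, orderOf_one] at hz; omega
    obtain ⟨a, b, hab, huniv⟩ := Nat.card_eq_two_iff.1 hM
    have h1 : (1 : M) ∈ ({a, b} : Set M) := huniv ▸ Set.mem_univ _
    have h2 : z ∈ ({a, b} : Set M) := huniv ▸ Set.mem_univ _
    have h3 : (⟨m, hm⟩ : M) ∈ ({a, b} : Set M) := huniv ▸ Set.mem_univ _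
    simp only [Set.mem_insert_iff, Set.mem_singleton_iff] at h1 h2 h3
    rcases h3 with h3 | h3 <;> rcases h1 with h1 | h1 <;> rcases h2 with h2 | h2 <;>
      first
      | exact Or.inl (congrArg Subtype.val (h3.trans h1.symm))
      | exact Or.inr (congrArg Subtype.val (h3.trans h2.symm))
      | exact absurd (h2.trans h1.symm) hz1
  have hcen : ∀ m ∈ M, ∀ g : G, g * m = m * g := by
    intro m hm g
    rcases hMz m hm with rfl | rfl
    · simp
    rcases hMz _ (Normal.conj_mem ‹_› _ hm g) with h | h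
    · rw [conj_eq_one_iff] at h
      rw [h, orderOf_one] at hz'; omega
    · exact mul_inv_eq_iff_eq_mul.1 h
  have hinv : ∀ a : G, orderOf a = 2 → a ∈ M := fun a ha => mem_of_orderOf hB z.2 (hz'.trans ha.symm)
  have hsyl : ∀ S : Sylow 2 G, IsCyclic (S : Subgroup G) ∨
      Nonempty ((S : Subgroup G) ≃* QuaternionGroup 2) := by
    intro S
    rcases two_cases hB S with h | h | h
    · exact Or.inl h
    · exfalso
      have hSM : (S : Subgroup G) ≤ M := fun y hy => by
        by_cases hy1 : y = 1
        · exact hy1 ▸ one_mem M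
        · exact hinv y (orderOf_eq_prime (h.2 y hy) hy1)
      exact S.not_dvd_index (hidx.trans (index_dvd_of_le hSM))
    · exact Or.inr h
  set π := QuotientGroup.mk' M with hπ
  have lift : ∀ A : Subgroup (G ⧸ M), IsMulCommutative A → ∃ P C : Subgroup G,
      IsPGroup 2 P ∧ IsMulCommutative C ∧ Odd (Nat.card C) ∧
      P ≤ centralizer (C : Set G) ∧ (P ⊔ C).map π = A ∧
      Nat.card (P ⊔ C : Subgroup G) = 2 * Nat.card A ∧
      Nat.card (P ⊔ C : Subgroup G) = Nat.card P * Nat.card C := by
    intro A hA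
    set L := A.comap π with hL
    have hML : M ≤ L := fun x hx => by
      show π x ∈ A
      rw [show π x = 1 from (QuotientGroup.eq_one_iff x).2 hx]
      exact one_mem A
    have hLmap : L.map π = A :=
      map_comap_eq_self_of_surjective (QuotientGroup.mk'_surjective M) A
    have hcom : ∀ x ∈ L, ∀ y ∈ L, ⁅x, y⁆ ∈ M := fun x hx y hy => by
      rw [← QuotientGroup.eq_one_iff]
      show π ⁅x, y⁆ = 1
      rw [map_commutatorElement, commutatorElement_eq_one_iff_mul_comm]
      exact commute_mem hA hx hy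
    let P₀ : Sylow 2 L := default
    set P := (P₀ : Subgroup L).map L.subtype with hP
    have hMn : (M.subgroupOf L).Normal := ‹M.Normal›.subgroupOf L
    have hMP : M.subgroupOf L ≤ P₀ := (Core.le_pCore ((IsPGroup.of_card (n := 1) (by
        rw [Nat.card_congr (subgroupOfEquivOfLe hML).toEquiv, hM]; norm_num) :
        IsPGroup 2 (M.subgroupOf L)))).trans (Core.pCore_le_sylow P₀)
    have hPn : (P₀ : Subgroup L).Normal := ⟨fun x hx g => by
      have h1 : ⁅g, x⁆ ∈ (P₀ : Subgroup L) := hMP (hcom g g.2 x x.2)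
      have := mul_mem h1 hx
      rwa [commutatorElement_def, inv_mul_cancel_right] at this⟩
    obtain ⟨C₀, hC⟩ := exists_right_complement'_of_coprime P₀.card_coprime_index
    set C := C₀.map L.subtype with hC'
    have hCodd : Odd (Nat.card C) := by
      rw [card_map_of_injective L.subtype_injective, ← IsComplement'.index_eq_card hC.symm]
      exact Nat.not_even_iff_odd.1 (fun he => P₀.not_dvd_index (even_iff_two_dvd.1 he))
    have hMC : ∀ x ∈ C, x ∈ M → x = 1 := fun x hx hxM => by
      obtain ⟨c, hc, rfl⟩ := hx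
      have := Subgroup.disjoint_def.1 hC.disjoint (hMP hxM) hc
      simp [this]
    have hsupL : P ⊔ C = L := by
      rw [hP, hC', ← Subgroup.map_sup, hC.sup_eq_top, ← MonoidHom.range_eq_map, range_subtype]
    refine ⟨P, C, P₀.isPGroup'.map _, of_forall_commute fun x hx y hy => ?_, hCodd, ?_,
      hsupL ▸ hLmap, ?_, ?_⟩
    · exact commutatorElement_eq_one_iff_mul_comm.1 (hMC _
        (Subgroup.commutator_le_self C (commutator_mem_commutator hx hy))
        (hcom x (map_subtype_le C₀ hx) y (map_subtype_le C₀ hy)))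
    · rw [le_centralizer_iff]
      intro c hc
      rw [mem_centralizer_iff]
      intro y hy
      set m := ⁅c, y⁆ with hm
      have hmM : m ∈ M := hcom c (map_subtype_le C₀ hc) y (map_subtype_le _ hy)
      have h1 : c * y * c⁻¹ = m * y := by rw [hm, commutatorElement_def]; group
      have h2 : ∀ k : ℕ, c ^ k * y * (c ^ k)⁻¹ = m ^ k * y := by
        intro k
        induction k with
        | zero => simp
        | succ k ih =>
          calc c ^ (k + 1) * y * (c ^ (k + 1))⁻¹ = c * (c ^ k * y * (c ^ k)⁻¹) * c⁻¹ := by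
                rw [pow_succ']; group
            _ = (c * m ^ k) * y * c⁻¹ := by rw [ih]; group
            _ = m ^ k * (c * y * c⁻¹) := by rw [hcen _ (pow_mem hmM k) c]; group
            _ = m ^ (k + 1) * y := by rw [h1, pow_succ, mul_assoc]
      have h3 := h2 (Nat.card C)
      rw [show c ^ Nat.card C = 1 from congrArg Subtype.val
        (pow_card_eq_one' (x := (⟨c, hc⟩ : C))), inv_one, mul_one, one_mul] at h3
      have hm1 : m = 1 := by
        rcases hMz m hmM with h | h
        · exact h
        · exfalso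
          obtain ⟨j, hj⟩ := hCodd
          rw [hj, pow_succ, pow_mul, h, show (z : G) ^ 2 = 1 by rw [← hz', pow_orderOf_eq_one],
            one_pow, one_mul, right_eq_mul] at h3
          rw [h3, orderOf_one] at hz'
          omega
      rw [hm, commutatorElement_eq_one_iff_mul_comm] at hm1
      exact hm1.symm
    · rw [hsupL, S3911.card_eq_map_mul M L, hLmap, inf_eq_right.2 hML, hM, mul_comm]
    · rw [hsupL, card_map_of_injective L.subtype_injective,
        card_map_of_injective L.subtype_injective, hC.card_mul]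
  intro A B hA hB' hcard
  obtain ⟨P, C, hP, hC, hCo, hPC, hPCA, hLc, hLm⟩ := lift A hA
  obtain ⟨P', C', hP', hC', hCo', hPC', hPCB, hKc, hKm⟩ := lift B hB'
  have hmul : Nat.card P * Nat.card C = Nat.card P' * Nat.card C' := by
    rw [← hLm, ← hKm, hLc, hKc, hcard]
  obtain ⟨a, ha⟩ := IsPGroup.iff_card.1 hP
  obtain ⟨b, hb⟩ := IsPGroup.iff_card.1 hP'
  have hPP : Nat.card P = Nat.card P' := by
    refine Nat.dvd_antisymm ?_ ?_
    · exact Nat.Coprime.dvd_of_dvd_mul_right
        (ha ▸ (Nat.coprime_two_left.2 hCo').pow_left a) (Dvd.intro _ hmul)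
    · exact Nat.Coprime.dvd_of_dvd_mul_right
        (hb ▸ (Nat.coprime_two_left.2 hCo).pow_left b) (Dvd.intro _ hmul.symm)
  have hCC : Nat.card C = Nat.card C' := by
    rw [← hPP] at hmul
    exact Nat.eq_of_mul_eq_mul_left Nat.card_pos hmul
  have hjoin : ∀ {P C : Subgroup G}, IsMulCommutative P → IsMulCommutative C →
      P ≤ centralizer (C : Set G) → IsMulCommutative (P ⊔ C : Subgroup G) := fun hP hC h =>
    Fusion.isMulCommutative_sup_of_le_centralizer hP hC
      (fun a ha b hb => mem_centralizer_iff.1 (h ha) b hb)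
  suffices h : ∃ g : G, P' ⊔ C' = (P ⊔ C).map (MulAut.conj g).toMonoidHom by
    obtain ⟨g, hg⟩ := h
    refine ⟨π g, ?_⟩
    rw [← hPCB, ← hPCA, hg, Subgroup.map_map, Subgroup.map_map]
    congr 1
  -- a nonabelian one is a Sylow subgroup
  have hfull : ∀ P : Subgroup G, IsPGroup 2 P → ¬ IsMulCommutative P →
      Nat.card P = 2 ^ (Nat.card G).factorization 2 := by
    intro P hP hne
    obtain ⟨S, hS⟩ := hP.exists_le_sylow
    rw [← S.card_eq_multiplicity]
    rcases hsyl S with hc | ⟨⟨e⟩⟩
    · exact absurd (of_forall_commute fun x hx y hy =>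
        commute_mem hc.isMulCommutative (hS hx) (hS hy)) hne
    · by_contra hcd
      have hS8 : Nat.card (S : Subgroup G) = 2 ^ 3 := by
        rw [Nat.card_congr e.toEquiv, Nat.card_eq_fintype_card, QuaternionGroup.card]; norm_num
      obtain ⟨c, hc⟩ := IsPGroup.iff_card.1 hP
      have hd := Subgroup.card_dvd_of_le hS
      rw [hc, hS8, Nat.pow_dvd_pow_iff_le_right (by norm_num)] at hd
      have hc2 : c ≤ 2 := by
        by_contra h3
        exact hcd (by rw [hc, hS8, show c = 3 by omega])
      refine hne ?_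
      rcases Nat.lt_or_ge c 2 with h2 | h2
      · have : Nat.card P = 1 ∨ (Nat.card P).Prime := by
          rcases Nat.le_one_iff_eq_zero_or_eq_one.1 (Nat.lt_succ_iff.1 h2) with rfl | rfl
          · exact Or.inl (by rw [hc, pow_zero])
          · exact Or.inr (by rw [hc, pow_one]; exact Nat.prime_two)
        rcases this with h | h
        · have : IsCyclic P := by
            rw [Subgroup.card_eq_one.1 h]; infer_instance
          exact this.isMulCommutative
        · have := Fact.mk h
          exact (isCyclic_of_prime_card (p := Nat.card P) rfl).isMulCommutative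
      · exact IsPGroup.isMulCommutative_of_card_eq_prime_sq (p := 2) (by
          rw [hc, le_antisymm hc2 h2])
  by_cases hab : IsMulCommutative P ∧ IsMulCommutative P'
  · obtain ⟨g, hg⟩ := hB _ _ (hjoin hab.1 hC hPC) (hjoin hab.2 hC' hPC') (by rw [hLc, hKc, hcard])
    exact ⟨g, hg⟩
  have hcP : Nat.card P = 2 ^ (Nat.card G).factorization 2 := by
    rcases not_and_or.1 hab with h | h
    · exact hfull P hP h
    · exact hPP.trans (hfull P' hP' h)
  obtain ⟨g, hg⟩ := hB C C' hC hC' hCC
  set Z := centralizer (C' : Set G) with hZ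
  have hPg : P.map (MulAut.conj g).toMonoidHom ≤ Z := by
    rintro _ ⟨x, hx, rfl⟩
    rw [hZ, hg, mem_centralizer_iff]
    rintro _ ⟨c, hc, rfl⟩
    rw [← map_mul, ← map_mul, mem_centralizer_iff.1 (hPC hx) c hc]
  have hsylZ : ∀ R : Subgroup G, R ≤ Z → Nat.card R = 2 ^ (Nat.card G).factorization 2 →
      ∃ T : Sylow 2 Z, (T : Subgroup Z).map Z.subtype = R := by
    intro R hR hRc
    refine ⟨Sylow.ofCard (R.subgroupOf Z) ?_, map_subgroupOf_eq_of_le hR⟩
    rw [Nat.card_congr (subgroupOfEquivOfLe hR).toEquiv, hRc]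
    refine congrArg (2 ^ ·) (le_antisymm ?_ ((Nat.factorization_le_iff_dvd Nat.card_pos.ne'
      Nat.card_pos.ne').2 (card_subgroup_dvd_card Z) 2))
    refine (Nat.prime_two.pow_dvd_iff_le_factorization Nat.card_pos.ne').1 ?_
    rw [← hRc]
    exact Subgroup.card_dvd_of_le hR
  obtain ⟨T₁, hT₁⟩ := hsylZ _ hPg (by
    rw [card_map_of_injective (f := (MulAut.conj g).toMonoidHom) (MulAut.conj g).injective, hcP])
  obtain ⟨T₂, hT₂⟩ := hsylZ _ hPC' (hPP ▸ hcP)
  obtain ⟨c, hc⟩ := MulAction.exists_smul_eq Z T₁ T₂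
  refine ⟨(c : G) * g, ?_⟩
  have hcomp : (MulAut.conj ((c : G) * g)).toMonoidHom =
      (MulAut.conj (c : G)).toMonoidHom.comp (MulAut.conj g).toMonoidHom := by
    ext x; simp [mul_assoc]
  rw [hcomp, ← Subgroup.map_map, Subgroup.map_sup, Subgroup.map_sup, ← hg]
  congr 1
  · rw [← hT₁, ← hT₂, ← hc]
    show (MulAut.conj c • (T₁ : Subgroup Z)).map Z.subtype = _
    rw [Coprime.conj_smul_map_subtype, Coprime.conj_smul_eq_map]
  · refine (le_antisymm ?_ ?_ : C' = C'.map (MulAut.conj (c : G)).toMonoidHom)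
    · intro x hx
      refine ⟨x, hx, ?_⟩
      show (c : G) * x * (c : G)⁻¹ = x
      rw [← mem_centralizer_iff.1 c.2 x hx, mul_inv_cancel_right]
    · rintro _ ⟨x, hx, rfl⟩
      show (c : G) * x * (c : G)⁻¹ ∈ C'
      rwa [← mem_centralizer_iff.1 c.2 x hx, mul_inv_cancel_right]

/-- Conjugacy of abelian subgroups of equal order passes to quotients of solvable groups. -/
theorem prop_quotient (G : Type u) [Group G] [Finite G] [Group.IsSolvable G] (hB : Prop' G)
    (M : Subgroup G) [M.Normal] : Prop' (G ⧸ M) := by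
  induction hn : Nat.card M using Nat.strong_induction_on generalizing G with
  | _ n IH =>
  subst hn
  by_cases hM : M = ⊥
  · subst hM
    exact hB.map_equiv (QuotientGroup.quotientBot (G := G)).symm
  obtain ⟨N, hNn, hNM, hNne, -, q, hq, hNea⟩ := exists_minimal hM
  by_cases heq : N = M
  · subst heq
    have := Fact.mk hq
    by_cases hq2 : q = 2
    · subst hq2
      obtain ⟨t, ht⟩ := IsPGroup.iff_card.1 (fun x : N => ⟨1, Subtype.ext (by
        simpa using hNea.2 x x.2)⟩ : IsPGroup 2 N)
      by_cases hidx : 2 ∣ N.index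
      · have ht1 : t = 1 := by
          rcases t with _ | t
          · rw [pow_zero, Subgroup.card_eq_one] at ht; exact absurd ht hNne
          rcases t with _ | t
          · rfl
          exfalso
          let P : Sylow 2 G := default
          exact P.not_dvd_index
            ((S3909.result hB N).2 2 (t + 2) (by omega) ht hNea P ▸ hidx)
        exact quotient_of_two hB N (by rw [ht, ht1, pow_one]) hidx
      · refine quotient_of_coprime hB N ?_
        rw [ht]
        exact (Nat.prime_two.coprime_iff_not_dvd.2 hidx).pow_left t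
    · refine S3911.result hB N ?_
      obtain ⟨t, ht⟩ := IsPGroup.iff_card.1 (fun x : N => ⟨1, Subtype.ext (by
        simpa using hNea.2 x x.2)⟩ : IsPGroup q N)
      rw [ht]
      exact (hq.odd_of_ne_two hq2).pow
  have hlt : Nat.card N < Nat.card M :=
    lt_of_le_of_ne (card_le_of_le hNM) fun h => heq (eq_of_le_of_card_ge hNM h.ge)
  have h1 : Prop' (G ⧸ N) := IH _ hlt G hB N rfl
  have h2lt : Nat.card (M.map (QuotientGroup.mk' N)) < Nat.card M := by
    have h := S3911.card_eq_map_mul N M
    rw [inf_eq_right.2 hNM] at h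
    rw [h]
    exact lt_mul_of_one_lt_right Nat.card_pos ((Subgroup.one_lt_card_iff_ne_bot N).2 hNne)
  have : (M.map (QuotientGroup.mk' N)).Normal :=
    Subgroup.Normal.map inferInstance _ (QuotientGroup.mk'_surjective N)
  have : Group.IsSolvable (G ⧸ N) :=
    Group.isSolvable_of_surjective (QuotientGroup.mk'_surjective N)
  exact (IH _ h2lt (G ⧸ N) h1 _ rfl).map_equiv
    (QuotientGroup.quotientQuotientEquivQuotient N M hNM)

end Cfsg.Agent.ConjAbelian
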