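import Cfsg.Agent.ConjAbelian.Quotient
import Cfsg.Agent.Thompson.Offender.Basic
import Cfsg.Agent.Thompson.Replacement
import Cfsg.Agent.Coprime.Generation

/-!
Faithful actions on minimal normal subgroups, and the Sylow subgroups when every normal
elementary abelian subgroup is cyclic.
-/

set_option autoImplicit false

namespace Cfsg.Agent.ConjAbelian

open Subgroup
open scoped commutatorElement Pointwise

universe u

variable {G : Type u} [Group G] [Finite G]

/-- An elementary abelian group normal modulo the kernel of its faithful action on a minimal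
normal subgroup is cyclic. -/
theorem cyclic_of_faithful (hB : Prop' G) {q r : ℕ} (hq : q.Prime) (hr : r.Prime) (hqr : r ≠ q)
    {M R : Subgroup G} [M.Normal] (hMea : Cfsg.IsElementaryAbelian q M) (hM : M ≠ ⊥)
    (hmin : ∀ K : Subgroup G, K.Normal → K ≤ M → K = ⊥ ∨ K = M)
    (hRea : Cfsg.IsElementaryAbelian r R) (hf : R ⊓ centralizer (M : Set G) = ⊥)
    (hn : (centralizer (M : Set G) ⊔ R).Normal) : IsCyclic R := by
  have := Fact.mk hr
  have := Fact.mk hq
  have := hRea.1
  by_cases hR : R = ⊥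
  · subst hR; infer_instance
  set C := centralizer (M : Set G) with hC
  have hCn : C.Normal := by rw [hC]; infer_instance
  have hRp : IsPGroup r R := fun x => ⟨1, Subtype.ext (by simpa using hRea.2 x x.2)⟩
  have hMp : IsPGroup q M := fun x => ⟨1, Subtype.ext (by simpa using hMea.2 x x.2)⟩
  let St : G → Subgroup G := fun a => R ⊓ centralizer ({a} : Set G)
  have hfix : ∀ a ∈ M, (∀ x ∈ R, x * a = a * x) → a = 1 := by
    set W := M ⊓ centralizer (R : Set G) with hW
    have hWn : W.Normal := by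
      refine ⟨fun w hw g => ⟨Normal.conj_mem ‹_› w hw.1 g, mem_centralizer_iff.2 fun x hx => ?_⟩⟩
      have h1 : g⁻¹ * x * g⁻¹⁻¹ ∈ ((C ⊔ R : Subgroup G) : Set G) :=
        hn.conj_mem x (mem_sup_right hx) g⁻¹
      rw [inv_inv, normal_mul] at h1
      obtain ⟨c, hc, y, hy, he⟩ := h1
      have h2 : g⁻¹ * x * g * w = w * (g⁻¹ * x * g) := by
        rw [← he, mul_assoc, mem_centralizer_iff.1 hw.2 y hy, ← mul_assoc,
          ← mem_centralizer_iff.1 hc w hw.1, mul_assoc]
      calc x * (g * w * g⁻¹) = g * (g⁻¹ * x * g * w) * g⁻¹ := by group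
        _ = g * (w * (g⁻¹ * x * g)) * g⁻¹ := by rw [h2]
        _ = g * w * g⁻¹ * x := by group
    intro a ha hax
    rcases hmin W hWn inf_le_left with h | h
    · rw [← mem_bot, ← h]
      exact ⟨ha, mem_centralizer_iff.2 hax⟩
    · exact absurd (le_bot_iff.1 (hf ▸ le_inf le_rfl
        (le_centralizer_iff.1 (h.ge.trans inf_le_right) : R ≤ C))) hR
  -- stabilizers of the nontrivial elements have constant order
  have hK : ∀ a ∈ M, Nat.card ((C ⊔ R) ⊓ centralizer ({a} : Set G) : Subgroup G) =
      Nat.card C * Nat.card (St a) := by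
    intro a ha
    have hsup : (C ⊔ R) ⊓ centralizer ({a} : Set G) = C ⊔ St a := by
      refine le_antisymm ?_ (sup_le (le_inf le_sup_left (centralizer_le
        (Set.singleton_subset_iff.2 ha))) (inf_le_inf_right _ le_sup_right))
      intro y hy
      have hy' : y ∈ ((C ⊔ R : Subgroup G) : Set G) := hy.1
      rw [normal_mul] at hy'
      obtain ⟨c, hc, x, hx, rfl⟩ := hy'
      refine mul_mem (mem_sup_left hc) (mem_sup_right ⟨hx, ?_⟩)
      exact ((centralizer ({a} : Set G)).mul_mem_cancel_left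
        (centralizer_le (Set.singleton_subset_iff.2 ha) hc)).1 hy.2
    have h := Core.card_sup_mul_card_inf (St a) C
    rw [show St a ⊓ C = ⊥ from le_bot_iff.1 ((inf_le_inf_right _ inf_le_left).trans hf.le),
      card_bot, mul_one] at h
    rw [hsup, sup_comm, h, mul_comm]
  have hconst : ∀ a ∈ M, a ≠ 1 → ∀ b ∈ M, b ≠ 1 → Nat.card (St a) = Nat.card (St b) := by
    intro a ha ha1 b hb hb1
    have hord : ∀ x ∈ M, x ≠ 1 → orderOf x = q := fun x hx hx1 =>
      orderOf_eq_prime (hMea.2 x hx) hx1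
    obtain ⟨g, hg⟩ := hB (zpowers a) (zpowers b) inferInstance inferInstance
      (by rw [Nat.card_zpowers, Nat.card_zpowers, hord a ha ha1, hord b hb hb1])
    obtain ⟨a', ha', hab⟩ := hg.le (mem_zpowers b)
    have hb' : g * a' * g⁻¹ = b := hab
    have ha'M : a' ∈ M := zpowers_le.2 ha ha'
    have heq : zpowers a' = zpowers a := eq_of_le_of_card_ge (zpowers_le.2 ha') (by
      rw [Nat.card_zpowers, Nat.card_zpowers, hord a ha ha1, hord a' ha'M fun h => hb1 (by
        rw [← hb', h, mul_one, mul_inv_cancel])])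
    have hst : St a = St a' := by
      show R ⊓ _ = R ⊓ _
      congr 1
      rw [← centralizer_closure {a}, ← centralizer_closure {a'}, ← zpowers_eq_closure,
        ← zpowers_eq_closure, heq]
    have hmap : ((C ⊔ R) ⊓ centralizer ({a'} : Set G)).map (MulAut.conj g).toMonoidHom =
        (C ⊔ R) ⊓ centralizer ({b} : Set G) := by
      rw [map_inf _ _ _ (MulAut.conj g).injective]
      congr 1
      · refine le_antisymm ?_ fun x hx => ⟨g⁻¹ * x * g, ?_, by simp [mul_assoc]⟩
        · rintro _ ⟨x, hx, rfl⟩; exact hn.conj_mem x hx g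
        · simpa using hn.conj_mem x hx g⁻¹
      · ext x
        constructor
        · rintro ⟨y, hy, rfl⟩
          rw [SetLike.mem_coe, mem_centralizer_singleton_iff] at hy
          rw [mem_centralizer_singleton_iff, ← hb']
          show g * y * g⁻¹ * (g * a' * g⁻¹) = g * a' * g⁻¹ * (g * y * g⁻¹)
          calc g * y * g⁻¹ * (g * a' * g⁻¹) = g * (y * a') * g⁻¹ := by group
            _ = g * (a' * y) * g⁻¹ := by rw [hy]
            _ = _ := by group
        · intro hx
          rw [mem_centralizer_singleton_iff, ← hb'] at hx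
          refine ⟨g⁻¹ * x * g, mem_centralizer_singleton_iff.2 ?_, by simp [mul_assoc]⟩
          calc g⁻¹ * x * g * a' = g⁻¹ * (x * (g * a' * g⁻¹)) * g := by group
            _ = g⁻¹ * (g * a' * g⁻¹ * x) * g := by rw [hx]
            _ = _ := by group
    have h := card_map_of_injective (K := (C ⊔ R) ⊓ centralizer ({a'} : Set G))
      (f := (MulAut.conj g).toMonoidHom) (MulAut.conj g).injective
    rw [hmap, hK b hb, hK a' ha'M] at h
    rw [hst]
    exact (Nat.eq_of_mul_eq_mul_left Nat.card_pos h).symm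
  -- one stabilizer is large
  have hcop : (Nat.card R).Coprime (Nat.card M) := by
    obtain ⟨a, ha⟩ := IsPGroup.iff_card.1 hRp
    obtain ⟨b, hb⟩ := IsPGroup.iff_card.1 hMp
    rw [ha, hb]
    exact Nat.coprime_pow_primes _ _ hr hq hqr
  obtain ⟨B, hBc, hBne⟩ : ∃ B ∈ Coprime.Cocyclic R, M ⊓ centralizer (B : Set G) ≠ ⊥ := by
    by_contra hno
    push Not at hno
    refine hM (le_bot_iff.1 ?_)
    rw [← Coprime.iSup_cocyclic_centralizer_eq (A := R) (K := M) le_normalizer_of_normal hcop]
    exact iSup₂_le fun B hB => (hno B hB).le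
  obtain ⟨hBR, t, htR, htB⟩ := hBc
  obtain ⟨a₀, ha₀, ha₀1⟩ : ∃ a ∈ M ⊓ centralizer (B : Set G), a ≠ 1 := by
    by_contra hno
    push Not at hno
    exact hBne (eq_bot_iff.2 fun x hx => mem_bot.2 (hno x hx))
  have hs0 : Nat.card R ≤ Nat.card (St a₀) * r := by
    have h1 := Thompson.card_sup_mul_card_inf_of_comm (X := B) (Y := zpowers t)
      (hBR.trans ((fun x hx => mem_centralizer_iff.2 fun y hy =>
        commute_mem hRea.1 (zpowers_le.2 htR hy) hx)))
    rw [htB] at h1
    calc Nat.card R ≤ Nat.card R * Nat.card (B ⊓ zpowers t : Subgroup G) :=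
          Nat.le_mul_of_pos_right _ Nat.card_pos
      _ = Nat.card B * Nat.card (zpowers t) := h1
      _ ≤ Nat.card (St a₀) * r := Nat.mul_le_mul (card_le_of_le (le_inf hBR fun x hx =>
          mem_centralizer_singleton_iff.2 (mem_centralizer_iff.1 ha₀.2 x hx)))
          (by rw [Nat.card_zpowers]; exact orderOf_le_of_pow_eq_one hr.pos (hRea.2 t htR))
  have hlt : ∀ a ∈ M, a ≠ 1 → St a < R := fun a ha ha1 =>
    lt_of_le_of_ne inf_le_left fun h => ha1 (hfix a ha fun x hx =>
      mem_centralizer_singleton_iff.1 (h.ge hx).2)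
  have hs : ∀ a ∈ M, a ≠ 1 → r * Nat.card (St a) = Nat.card R := fun a ha ha1 =>
    le_antisymm (Offender.mul_card_le_of_lt hRp (hlt a ha ha1))
      (hs0.trans (by rw [hconst a₀ ha₀.1 ha₀1 a ha ha1, mul_comm]))
  -- all stabilizers are equal
  have hall : ∀ b ∈ M, b ≠ 1 → St b = St a₀ := by
    intro b hb hb1
    by_contra hne
    have ha := ha₀.1
    have hcard : Nat.card (St a₀) = Nat.card (St b) := hconst _ ha ha₀1 b hb hb1
    have hnle : ¬ St a₀ ≤ St b := fun h => hne (eq_of_le_of_card_ge h hcard.ge).symm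
    have hgen : St a₀ ⊔ St b = R := by
      have hXlt : St b < St a₀ ⊔ St b := lt_of_le_of_ne le_sup_right fun h => hnle (h ▸ le_sup_left)
      refine eq_of_le_of_card_ge (sup_le inf_le_left inf_le_left) ?_
      rw [← hs b hb hb1]
      exact Offender.mul_card_le_of_lt (hRp.to_le (sup_le inf_le_left inf_le_left)) hXlt
    have hab1 : a₀ * b ≠ 1 := fun h => hne (by
      show R ⊓ _ = R ⊓ _
      congr 1
      rw [← centralizer_closure {b}, ← centralizer_closure {a₀}, ← zpowers_eq_closure,
        ← zpowers_eq_closure, eq_inv_of_mul_eq_one_right h, zpowers_inv])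
    have hab : St (a₀ * b) ≤ St a₀ ⊓ St b := by
      intro x hx
      have hxR : x ∈ R := hx.1
      have hxab := mem_centralizer_singleton_iff.1 hx.2
      set w := a₀⁻¹ * (x * a₀ * x⁻¹) with hw
      have hw' : w = b * (x * b * x⁻¹)⁻¹ := by
        have h1 : x * a₀ * x⁻¹ * (x * b * x⁻¹) = a₀ * b := by
          rw [← mul_inv_cancel_right (a₀ * b) x, ← hxab]; group
        rw [hw, eq_mul_inv_of_mul_eq h1]; group
      have hcc : ∀ y ∈ R, ∀ c : G, y * c = c * y → y * (x * c * x⁻¹) = x * c * x⁻¹ * y := by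
        intro y hy c hyc
        have hyx : y * x = x * y := commute_mem hRea.1 hy hxR
        have hyx' : x⁻¹ * y = y * x⁻¹ := by
          rw [inv_mul_eq_iff_eq_mul, ← mul_assoc, ← hyx, mul_inv_cancel_right]
        calc y * (x * c * x⁻¹) = y * x * c * x⁻¹ := by group
          _ = x * (y * c) * x⁻¹ := by rw [hyx]; group
          _ = x * c * (y * x⁻¹) := by rw [hyc]; group
          _ = x * c * x⁻¹ * y := by rw [← hyx']; group
      have hwM : w ∈ M := mul_mem (inv_mem ha) (Normal.conj_mem ‹_› _ ha x)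
      have hw1 : w = 1 := hfix w hwM fun y hy => by
        have : R ≤ centralizer ({w} : Set G) := by
          rw [← hgen]
          refine sup_le (fun z hz => ?_) (fun z hz => ?_) <;> rw [mem_centralizer_singleton_iff]
          · have h1 : Commute z a₀ := mem_centralizer_singleton_iff.1 hz.2
            exact (h1.inv_right.mul_right (hcc z hz.1 a₀ h1.eq)).eq
          · have h1 : Commute z b := mem_centralizer_singleton_iff.1 hz.2
            rw [hw']
            exact (h1.mul_right (show Commute z (x * b * x⁻¹) from hcc z hz.1 b h1.eq).inv_right).eq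
        exact mem_centralizer_singleton_iff.1 (this hy)
      refine ⟨⟨hxR, mem_centralizer_singleton_iff.2 ?_⟩, hxR, mem_centralizer_singleton_iff.2 ?_⟩
      · rw [hw, inv_mul_eq_one] at hw1
        exact mul_inv_eq_iff_eq_mul.1 hw1.symm
      · rw [hw'] at hw1
        exact mul_inv_eq_iff_eq_mul.1 (mul_inv_eq_one.1 hw1).symm
    have := card_le_of_le (hab.trans inf_le_left : St (a₀ * b) ≤ St a₀)
    have hlt2 : St (a₀ * b) < St a₀ := lt_of_le_of_ne (hab.trans inf_le_left) fun h =>
      hnle (h.ge.trans (hab.trans inf_le_right))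
    have := Set.Finite.card_lt_card (Set.toFinite (St a₀ : Set G)) hlt2
    exact absurd (hconst _ (mul_mem ha hb) hab1 a₀ ha ha₀1) this.ne
  have hK1 : St a₀ = ⊥ := le_bot_iff.1 (hf ▸ le_inf inf_le_left fun x hx =>
    mem_centralizer_iff.2 fun m hm => by
      by_cases hm1 : m = 1
      · simp [hm1]
      · exact (mem_centralizer_singleton_iff.1 ((hall m hm hm1).ge hx).2).symm)
  have hRr : Nat.card R = r := by
    rw [← hs a₀ ha₀.1 ha₀1, hK1, card_bot, mul_one]
  exact isCyclic_of_prime_card hRr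

section NoElementary

variable [Group.IsSolvable G]

/-- A `p`-subgroup of the Fitting subgroup lies in the `p`-core. -/
theorem le_pCore_of_le_fitting {p : ℕ} [Fact p.Prime] {P : Subgroup G} (hP : IsPGroup p P)
    (hle : P ≤ Cfsg.fittingSubgroup G) : P ≤ Cfsg.pCore p G := by
  set F := Cfsg.fittingSubgroup G with hF
  have : Group.IsNilpotent F := Core.fittingSubgroup_isNilpotent
  have hFn : F.Normal := inferInstance
  obtain ⟨S, hS⟩ := (hP.comap_of_injective F.subtype F.subtype_injective).exists_le_sylow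
  have hSn : (S : Subgroup F).Normal :=
    (Group.isNilpotent_of_finite_tfae.out 0 3 rfl rfl).1 inferInstance p ⟨Fact.out⟩ S
  have h1 : P.subgroupOf F ≤ Cfsg.pCore p F := hS.trans (Core.le_pCore S.isPGroup')
  have h2 := map_mono (f := F.subtype) h1
  rw [map_subgroupOf_eq_of_le hle, Core.map_pCore_normal] at h2
  exact h2.trans inf_le_left

variable (hB : Prop' G)
  (hno : ∀ (r : ℕ) (E : Subgroup G), r.Prime → E.Normal → Cfsg.IsElementaryAbelian r E → IsCyclic E)
include hB hno

/-- The cores are cyclic, except for a normal quaternion Sylow subgroup. -/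
theorem core_cases {s : ℕ} [Fact s.Prime] :
    IsCyclic (Cfsg.pCore s G) ∨
      (s = 2 ∧ ∀ T : Sylow s G, (T : Subgroup G) = Cfsg.pCore s G ∧
        Nonempty ((T : Subgroup G) ≃* QuaternionGroup 2)) := by
  have hs : s.Prime := Fact.out
  set O := Cfsg.pCore s G with hO
  have hOn : O.Normal := Core.pCore_normal
  by_cases hc : IsCyclic O
  · exact Or.inl hc
  let T₀ : Sylow s G := default
  have hOT : ∀ T : Sylow s G, O ≤ T := fun T => Core.pCore_le_sylow T
  have hTc : ∀ T : Sylow s G, ¬ IsCyclic (T : Subgroup G) := fun T h => hc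
    (isCyclic_of_injective (Subgroup.inclusion (hOT T)) (inclusion_injective (hOT T)))
  have hea : ∀ T : Sylow s G, ¬ Cfsg.IsElementaryAbelian s (T : Subgroup G) := by
    intro T h
    refine hc (hno s O hs hOn ⟨of_forall_commute fun x hx y hy =>
      commute_mem h.1 (hOT T hx) (hOT T hy), fun x hx => h.2 x (hOT T hx)⟩)
  have hs2 : s = 2 := by
    by_contra hs2
    exact hea T₀ (elementary_of_odd hB hs2 T₀ (hTc T₀))
  subst hs2
  refine Or.inr ⟨rfl, fun T => ?_⟩
  obtain ⟨e⟩ := ((two_cases hB T).resolve_left (hTc T)).resolve_left (hea T)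
  refine ⟨le_antisymm ?_ (hOT T), ⟨e⟩⟩
  obtain ⟨x, hx, hx4⟩ : ∃ x ∈ O, orderOf x = 4 := by
    by_contra hno4
    push Not at hno4
    have hexp : ∀ x ∈ O, x ^ 2 = 1 := by
      intro x hx
      have h8 : orderOf (e ⟨x, hOT T hx⟩) ∣ 4 := by
        rcases e ⟨x, hOT T hx⟩ with i | i
        · rw [QuaternionGroup.orderOf_a]; exact Nat.div_dvd_of_dvd (Nat.gcd_dvd_left _ _)
        · rw [QuaternionGroup.orderOf_xa]
      rw [MulEquiv.orderOf_eq, Subgroup.orderOf_mk] at h8
      rw [← orderOf_dvd_iff_pow_eq_one]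
      obtain ⟨k, hk, hk'⟩ := (Nat.dvd_prime_pow Nat.prime_two).1 (show orderOf x ∣ 2 ^ 2 from h8)
      interval_cases k
      · simp [hk']
      · simp [hk']
      · exact absurd hk' (hno4 x hx)
    exact hc (hno 2 O hs hOn ⟨of_forall_commute fun x hx y hy => by
      have h1 := hexp x hx; have h2 := hexp y hy; have h3 := hexp _ (O.mul_mem hx hy)
      rw [sq] at h1 h2 h3
      calc x * y = x⁻¹ * y⁻¹ := by rw [inv_eq_of_mul_eq_one_left h1, inv_eq_of_mul_eq_one_left h2]
        _ = (y * x)⁻¹ := (mul_inv_rev y x).symm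
        _ = y * x := by
          have h4 := hexp _ (O.mul_mem hy hx)
          rw [sq] at h4
          exact inv_eq_of_mul_eq_one_left h4, hexp⟩)
  intro y hy
  have hall : ∀ w : (T : Subgroup G), orderOf (w : G) = 4 → (w : G) ∈ O := fun w hw =>
    mem_of_orderOf hB hx (hx4.trans hw.symm)
  have hxa : ∀ i, ((e.symm (QuaternionGroup.xa i) : (T : Subgroup G)) : G) ∈ O := fun i =>
    hall _ (by rw [orderOf_coe, MulEquiv.orderOf_eq, QuaternionGroup.orderOf_xa])
  rcases hq : e ⟨y, hy⟩ with i | i
  · have h := O.mul_mem (hxa (2 : ZMod 4)) (hxa i)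
    rw [← Subgroup.coe_mul, ← map_mul, QuaternionGroup.xa_mul_xa,
      show ((2 : ℕ) : ZMod (2 * 2)) + i - 2 = i by push_cast; ring, ← hq, e.symm_apply_apply] at h
    exact h
  · have h := hxa i
    rwa [← hq, e.symm_apply_apply] at h

omit hno in
/-- Two conjugate elements agree modulo the centralizer of a cyclic normal subgroup, up to
powers. -/
theorem exists_mul_inv_mem {O : Subgroup G} [O.Normal] [IsCyclic O] {x y : G}
    (hxy : orderOf x = orderOf y) : ∃ k : ℤ, y * (x ^ k)⁻¹ ∈ centralizer (O : Set G) := by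
  obtain ⟨g, hg⟩ := hB (zpowers x) (zpowers y) inferInstance inferInstance
    (by rw [Nat.card_zpowers, Nat.card_zpowers, hxy])
  obtain ⟨x', ⟨k, rfl⟩, rfl⟩ := hg.le (mem_zpowers y)
  refine ⟨k, ?_⟩
  show g * x ^ k * g⁻¹ * (x ^ k)⁻¹ ∈ _
  let φ : G →* MulAut O := MulAut.conjNormal
  have hcomm : ∀ a b : MulAut O, a * b = b * a := fun a b => by
    let e := IsCyclic.mulAutMulEquiv O
    exact e.injective (by rw [map_mul, map_mul, mul_comm])
  have h1 : φ ⁅g, x ^ k⁆ = 1 := by
    rw [map_commutatorElement, commutatorElement_eq_one_iff_mul_comm]; exact hcomm _ _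
  rw [mem_centralizer_iff]
  intro u hu
  have h2 := congrArg Subtype.val (DFunLike.congr_fun h1 ⟨u, hu⟩)
  rw [MulAut.conjNormal_apply, commutatorElement_def] at h2
  exact (mul_inv_eq_iff_eq_mul.1 h2).symm

/-- There is no noncyclic elementary abelian Sylow subgroup. -/
theorem not_elementary {r : ℕ} [Fact r.Prime] (S : Sylow r G)
    (hea : Cfsg.IsElementaryAbelian r (S : Subgroup G)) : IsCyclic (S : Subgroup G) := by
  have hr : r.Prime := Fact.out
  by_contra hnc
  have hord : ∀ y ∈ (S : Subgroup G), y ≠ 1 → orderOf y = r := fun y hy hy1 =>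
    orderOf_eq_prime (hea.2 y hy) hy1
  have hpropagate : ∀ {N : Subgroup G}, N.Normal → (∃ x ∈ (S : Subgroup G), x ∈ N ∧ x ≠ 1) →
      (S : Subgroup G) ≤ N := by
    rintro N hN ⟨x, hxS, hxN, hx1⟩ y hy
    by_cases hy1 : y = 1
    · exact hy1 ▸ one_mem N
    · exact mem_of_orderOf hB hxN ((hord x hxS hx1).trans (hord y hy hy1).symm)
  have hOr : Cfsg.pCore r G = ⊥ := by
    by_contra hne
    obtain ⟨x, hx, hx1⟩ : ∃ x ∈ Cfsg.pCore r G, x ≠ 1 := by
      by_contra h
      push Not at h
      exact hne (eq_bot_iff.2 fun x hx => mem_bot.2 (h x hx))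
    have hSO := hpropagate Core.pCore_normal ⟨x, Core.pCore_le_sylow S hx, hx, hx1⟩
    refine hnc (hno r S hr ?_ hea)
    have he : Cfsg.pCore r G = S := le_antisymm (Core.pCore_le_sylow S) hSO
    exact he ▸ Core.pCore_normal
  have hScard : r ^ 2 ≤ Nat.card (S : Subgroup G) := by
    obtain ⟨n, hn⟩ := IsPGroup.iff_card.1 S.isPGroup'
    rw [hn]
    refine Nat.pow_le_pow_right hr.pos ?_
    by_contra h2
    refine hnc ?_
    rcases Nat.le_one_iff_eq_zero_or_eq_one.1 (show n ≤ 1 by omega) with rfl | rfl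
    · rw [pow_zero, Subgroup.card_eq_one] at hn; rw [hn]; infer_instance
    · rw [pow_one] at hn; exact isCyclic_of_prime_card hn
  have hcore : ∀ s : ℕ, s.Prime → (S : Subgroup G) ≤ centralizer (Cfsg.pCore s G : Set G) := by
    intro s hs
    have := Fact.mk hs
    have hOn : (Cfsg.pCore s G).Normal := Core.pCore_normal
    by_cases hsr : s = r
    · subst hsr; rw [hOr]; exact le_centralizer_iff.1 bot_le
    refine hpropagate inferInstance ?_
    rcases core_cases hB hno (s := s) with hc | ⟨rfl, hT⟩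
    · obtain ⟨x, hxS, hx1⟩ : ∃ x ∈ (S : Subgroup G), x ≠ 1 := by
        by_contra h
        push Not at h
        exact hnc (by rw [show (S : Subgroup G) = ⊥ from eq_bot_iff.2 fun x hx => mem_bot.2 (h x hx)]; infer_instance)
      obtain ⟨y, hyS, hyx⟩ : ∃ y ∈ (S : Subgroup G), y ∉ zpowers x := by
        by_contra h
        push Not at h
        refine hnc ?_
        rw [le_antisymm (h : (S : Subgroup G) ≤ zpowers x) (zpowers_le.2 hxS)]
        infer_instance
      obtain ⟨k, hk⟩ := exists_mul_inv_mem hB (O := Cfsg.pCore s G) (x := x) (y := y)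
        ((hord x hxS hx1).trans (hord y hyS fun h => hyx (h ▸ one_mem _)).symm)
      exact ⟨_, mul_mem hyS (inv_mem (zpow_mem hxS k)), hk,
        fun h => hyx ((mul_inv_eq_one.1 h) ▸ zpow_mem (mem_zpowers x) k)⟩
    · let T : Sylow 2 G := default
      obtain ⟨hTO, ⟨e⟩⟩ := hT T
      set Q := Cfsg.pCore 2 G with hQ
      have hQ8 : Nat.card Q = 8 := by
        rw [← hTO, Nat.card_congr e.toEquiv, Nat.card_eq_fintype_card, QuaternionGroup.card]
      set i : G := ((e.symm (QuaternionGroup.xa 0) : (T : Subgroup G)) : G) with hi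
      have hiQ : i ∈ Q := hTO.le (e.symm _).2
      have hi4 : orderOf i = 4 := by
        rw [hi, orderOf_coe, MulEquiv.orderOf_eq, QuaternionGroup.orderOf_xa]
      obtain ⟨y, hy, hyi, hy1⟩ : ∃ y ∈ (S : Subgroup G), y * i = i * y ∧ y ≠ 1 := by
        by_contra h
        push Not at h
        let f : ↥(S : Subgroup G) → ↥Q := fun x => ⟨(x : G) * i * (x : G)⁻¹, hOn.conj_mem i hiQ x⟩
        have hf : Function.Injective f := by
          intro a b hab
          have hab' : (a : G) * i * (a : G)⁻¹ = (b : G) * i * (b : G)⁻¹ := congrArg Subtype.val hab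
          refine (inv_mul_eq_one.1 (Subtype.ext (h _ (b⁻¹ * a).2 ?_))).symm
          show ((b : G)⁻¹ * a) * i = i * ((b : G)⁻¹ * a)
          calc ((b : G)⁻¹ * a) * i = (b : G)⁻¹ * ((a : G) * i * (a : G)⁻¹) * a := by group
            _ = _ := by rw [hab']; group
        have hr3 : 3 ≤ r := by
          have := hr.two_le
          omega
        have h1 := Nat.card_le_card_of_injective f hf
        rw [hQ8] at h1
        have := Nat.pow_le_pow_left hr3 2
        omega
      refine ⟨y, hy, mem_centralizer_iff.2 ?_, hy1⟩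
      set Z := (zpowers i).subgroupOf Q with hZ
      have hZ2 : Z.index = 2 := by
        refine Nat.eq_of_mul_eq_mul_left (show 0 < 4 by norm_num) ?_
        have := card_mul_index Z
        rw [Nat.card_congr (subgroupOfEquivOfLe (zpowers_le.2 hiQ)).toEquiv, Nat.card_zpowers,
          hi4, hQ8] at this
        omega
      intro w hw
      by_cases hwi : w ∈ zpowers i
      · obtain ⟨k, hk⟩ := hwi
        obtain rfl : i ^ k = w := hk
        exact ((show Commute y i from hyi).zpow_right k).symm.eq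
      set w' := y * w * y⁻¹ with hw'
      have hw'i : w' ∉ zpowers i := fun h => by
        obtain ⟨k, hk⟩ := h
        replace hk : i ^ k = w' := hk
        refine hwi ⟨k, ?_⟩
        show i ^ k = w
        have h1 : y * i ^ k = i ^ k * y := ((show Commute y i from hyi).zpow_right k).eq
        have h2 : y * w = i ^ k * y := by rw [hk, hw', inv_mul_cancel_right]
        exact mul_left_cancel (h1.trans h2.symm)
      have hmem : w⁻¹ * w' ∈ zpowers i := by
        have h := (Subgroup.mul_mem_iff_of_index_two hZ2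
          (a := (⟨w⁻¹, inv_mem hw⟩ : Q)) (b := ⟨w', hOn.conj_mem w hw y⟩)).2
          (iff_of_false (fun h => hwi (inv_mem_iff.1 h)) hw'i)
        exact h
      obtain ⟨k, hk⟩ := hmem
      replace hk : i ^ k = w⁻¹ * w' := hk
      have hyw : y * w * y⁻¹ = w * i ^ k := by rw [hk, hw', mul_inv_cancel_left]
      have hyk : y * i ^ k * y⁻¹ = i ^ k := by
        rw [((show Commute y i from hyi).zpow_right k).eq, mul_inv_cancel_right]
      have hpow : ∀ n : ℕ, y ^ n * w * (y ^ n)⁻¹ = w * (i ^ k) ^ n := by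
        intro n
        induction n with
        | zero => simp
        | succ n ih =>
          calc y ^ (n + 1) * w * (y ^ (n + 1))⁻¹ = y * (y ^ n * w * (y ^ n)⁻¹) * y⁻¹ := by
                rw [pow_succ']; group
            _ = y * w * y⁻¹ * (y * i ^ k * y⁻¹) ^ n := by rw [ih, conj_pow]; group
            _ = w * (i ^ k) ^ (n + 1) := by rw [hyk, hyw, mul_assoc, ← pow_succ']
      have h1 := hpow r
      rw [hea.2 y hy, inv_one, mul_one, one_mul, eq_comm, mul_eq_left] at h1
      have h4 : (i ^ k) ^ 4 = 1 := by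
        rw [← zpow_natCast, ← zpow_mul, mul_comm, zpow_mul, zpow_natCast, ← hi4, pow_orderOf_eq_one,
          one_zpow]
      have hk1 : i ^ k = 1 := by
        have hg : (i ^ k) ^ Nat.gcd r (2 ^ 2) = 1 := pow_gcd_eq_one.2 ⟨h1, h4⟩
        rwa [((Nat.coprime_primes hr Nat.prime_two).2 (Ne.symm hsr)).pow_right 2, pow_one] at hg
      rw [hk1, mul_one] at hyw
      exact (mul_inv_eq_iff_eq_mul.1 hyw).symm
  have hSF : (S : Subgroup G) ≤ centralizer (Cfsg.fittingSubgroup G : Set G) := by
    rw [le_centralizer_iff, Core.fittingSubgroup_eq_iSup_pCore]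
    exact iSup_le fun s => le_centralizer_iff.1 (hcore (s : ℕ) s.2)
  have := le_pCore_of_le_fitting S.isPGroup' (hSF.trans Core.centralizer_fittingSubgroup_le)
  exact hnc (by
    rw [show (S : Subgroup G) = ⊥ from le_bot_iff.1 (hOr ▸ this)]; infer_instance)

/-- Odd Sylow subgroups are cyclic. -/
theorem cyclic_of_odd {r : ℕ} [Fact r.Prime] (hr2 : r ≠ 2) (S : Sylow r G) :
    IsCyclic (S : Subgroup G) :=
  (em _).elim id fun h => not_elementary hB hno S (elementary_of_odd hB hr2 S h)

/-- A noncyclic Sylow 2-subgroup is normal and quaternion of order 8. -/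
theorem two_structure (T : Sylow 2 G) :
    IsCyclic (T : Subgroup G) ∨
      ((T : Subgroup G).Normal ∧ Nonempty ((T : Subgroup G) ≃* QuaternionGroup 2)) := by
  rcases two_cases hB T with h | h | ⟨⟨e⟩⟩
  · exact Or.inl h
  · exact Or.inl (not_elementary hB hno T h)
  refine Or.inr ⟨?_, ⟨e⟩⟩
  rcases core_cases hB hno (s := 2) with hc | ⟨-, hT⟩
  swap
  · exact (hT T).1 ▸ Core.pCore_normal
  by_contra hn
  set O := Cfsg.pCore 2 G with hO
  have hOn : O.Normal := Core.pCore_normal
  have hno4 : ∀ x ∈ O, orderOf x ≠ 4 := by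
    intro x hx hx4
    refine hn ?_
    have hle : (T : Subgroup G) ≤ O := by
      intro y hy
      have hxa : ∀ i, ((e.symm (QuaternionGroup.xa i) : (T : Subgroup G)) : G) ∈ O := fun i =>
        mem_of_orderOf hB hx (by
          rw [hx4, orderOf_coe, MulEquiv.orderOf_eq, QuaternionGroup.orderOf_xa])
      rcases hq : e ⟨y, hy⟩ with i | i
      · have h := O.mul_mem (hxa (2 : ZMod 4)) (hxa i)
        rw [← Subgroup.coe_mul, ← map_mul, QuaternionGroup.xa_mul_xa,
          show ((2 : ℕ) : ZMod (2 * 2)) + i - 2 = i by push_cast; ring, ← hq,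
          e.symm_apply_apply] at h
        exact h
      · have h := hxa i
        rwa [← hq, e.symm_apply_apply] at h
    exact le_antisymm (Core.pCore_le_sylow T) hle ▸ Core.pCore_normal
  set i : G := ((e.symm (QuaternionGroup.xa 0) : (T : Subgroup G)) : G) with hi
  set j : G := ((e.symm (QuaternionGroup.a 1) : (T : Subgroup G)) : G) with hj
  have hi4 : orderOf i = 4 := by rw [hi, orderOf_coe, MulEquiv.orderOf_eq, QuaternionGroup.orderOf_xa]
  have hj4 : orderOf j = 4 := by
    rw [hj, orderOf_coe, MulEquiv.orderOf_eq, QuaternionGroup.orderOf_a]; rfl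
  obtain ⟨g, hg⟩ := hB (zpowers i) (zpowers j) inferInstance inferInstance
    (by rw [Nat.card_zpowers, Nat.card_zpowers, hi4, hj4])
  obtain ⟨x', ⟨k, rfl⟩, hgj⟩ := hg.le (mem_zpowers j)
  have hgj' : g * i ^ k * g⁻¹ = j := hgj
  have hyC : j * (i ^ k)⁻¹ ∈ centralizer (Cfsg.fittingSubgroup G : Set G) := by
    rw [← zpowers_le, le_centralizer_iff, Core.fittingSubgroup_eq_iSup_pCore]
    refine iSup_le ?_
    rintro ⟨s, hs⟩
    show Cfsg.pCore s G ≤ _
    rw [le_centralizer_iff, zpowers_le]
    have := Fact.mk hs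
    have hsn : (Cfsg.pCore s G).Normal := Core.pCore_normal
    rcases core_cases hB hno (s := s) with hc' | ⟨rfl, hT'⟩
    · let φ : G →* MulAut (Cfsg.pCore s G) := MulAut.conjNormal
      have h1 : φ ⁅g, i ^ k⁆ = 1 := by
        rw [map_commutatorElement, commutatorElement_eq_one_iff_mul_comm]
        exact (IsCyclic.mulAutMulEquiv (Cfsg.pCore s G)).injective
          (by rw [map_mul, map_mul, mul_comm])
      rw [show j * (i ^ k)⁻¹ = ⁅g, i ^ k⁆ by rw [commutatorElement_def, hgj']]
      rw [mem_centralizer_iff]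
      intro u hu
      have h2 := congrArg Subtype.val (DFunLike.congr_fun h1 ⟨u, hu⟩)
      rw [MulAut.conjNormal_apply] at h2
      exact (mul_inv_eq_iff_eq_mul.1 h2).symm
    · exact absurd ((hT' T).1 ▸ Core.pCore_normal) hn
  have hyO : j * (i ^ k)⁻¹ ∈ O := by
    have hle := le_pCore_of_le_fitting (P := zpowers (j * (i ^ k)⁻¹))
      (T.isPGroup'.to_le (zpowers_le.2 (mul_mem (e.symm _).2 (inv_mem (zpow_mem (e.symm _).2 k)))))
      (zpowers_le.2 (Core.centralizer_fittingSubgroup_le hyC))
    exact hle (mem_zpowers _)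
  set w : (T : Subgroup G) := e.symm (QuaternionGroup.a 1) * (e.symm (QuaternionGroup.xa 0) ^ k)⁻¹
    with hw
  have hwc : (w : G) = j * (i ^ k)⁻¹ := by simp [hw, hi, hj]
  have hne4 : orderOf (QuaternionGroup.a 1 * ((QuaternionGroup.xa 0) ^ k)⁻¹ : QuaternionGroup 2) ≠ 4 := by
    have h := hno4 _ hyO
    rw [← hwc, orderOf_coe, hw, ← map_zpow, ← map_inv, ← map_mul, MulEquiv.orderOf_eq] at h
    exact h
  refine hne4 ?_
  have h4 : (QuaternionGroup.xa 0 : QuaternionGroup 2) ^ (4 : ℤ) = 1 := by decide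
  rw [show k = k % 4 + 4 * (k / 4) by omega, zpow_add, zpow_mul, h4, one_zpow, mul_one]
  have hlt := Int.emod_lt_of_pos k (show (0 : ℤ) < 4 by norm_num)
  have hge := Int.emod_nonneg k (show (4 : ℤ) ≠ 0 by norm_num)
  have key : ∀ m : Fin 4, orderOf (QuaternionGroup.a 1 *
      ((QuaternionGroup.xa 0) ^ (m : ℕ))⁻¹ : QuaternionGroup 2) = 4 := by
    intro m
    rw [orderOf_eq_iff (by norm_num)]
    refine ⟨by revert m; decide, fun n hn hn0 => ?_⟩
    have hall : ∀ m : Fin 4, ∀ n : Fin 4, 0 < (n : ℕ) → ((QuaternionGroup.a 1 *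
      ((QuaternionGroup.xa 0) ^ (m : ℕ))⁻¹ : QuaternionGroup 2)) ^ (n : ℕ) ≠ 1 := by decide
    exact hall m ⟨n, hn⟩ hn0
  obtain ⟨m, hm⟩ : ∃ m : ℕ, k % 4 = m := ⟨(k % 4).toNat, (Int.toNat_of_nonneg hge).symm⟩
  rw [hm, zpow_natCast]
  exact key ⟨m, by omega⟩

end NoElementary

end Cfsg.Agent.ConjAbelian
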