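import Cfsg.Agent.ConjAbelian.Main

/-!
The induction.
-/

set_option autoImplicit false

namespace Cfsg.Agent.ConjAbelian

open Subgroup
open scoped commutatorElement Pointwise

universe u

variable {G : Type u} [Group G] [Finite G]

/-- Normal elementary abelian subgroups of the quotient by the Fitting subgroup are cyclic. -/
theorem fitting_quotient_no_elementary (hB : Prop' G) [Group.IsSolvable G]
    (hFhall : (Nat.card (Cfsg.fittingSubgroup G)).Coprime (Cfsg.fittingSubgroup G).index)
    (hCF : centralizer (Cfsg.fittingSubgroup G : Set G) ≤ Cfsg.fittingSubgroup G)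
    (hcore : ∀ q : ℕ, q.Prime → Cfsg.pCore q G ≠ ⊥ →
      Cfsg.IsElementaryAbelian q (Cfsg.pCore q G) ∧
        ∀ K : Subgroup G, K.Normal → K ≤ Cfsg.pCore q G → K = ⊥ ∨ K = Cfsg.pCore q G)
    (hFc : Cfsg.fittingSubgroup G ≤ centralizer (Cfsg.fittingSubgroup G : Set G))
    (r : ℕ) (E : Subgroup (G ⧸ Cfsg.fittingSubgroup G)) (hr : r.Prime) (hEn : E.Normal)
    (hEea : Cfsg.IsElementaryAbelian r E) : IsCyclic E := by
  have := Fact.mk hr
  set F := Cfsg.fittingSubgroup G with hF
  set π := QuotientGroup.mk' F with hπ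
  have hπs : Function.Surjective π := QuotientGroup.mk'_surjective F
  by_cases hE : E = ⊥
  · subst hE; infer_instance
  set E' := E.comap π with hE'
  have hE'n : E'.Normal := hEn.comap π
  have hFE : F ≤ E' := fun x hx => by
    show π x ∈ E
    rw [show π x = 1 from (QuotientGroup.eq_one_iff x).2 hx]
    exact one_mem E
  obtain ⟨R₀, hR₀⟩ := exists_right_complement'_of_coprime (N := F.subgroupOf E') (by
    rw [Nat.card_congr (subgroupOfEquivOfLe hFE).toEquiv]
    exact hFhall.coprime_dvd_right (relIndex_dvd_index_of_normal F E'))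
  set R := R₀.map E'.subtype with hR
  have hRF : ∀ x ∈ R, x ∈ F → x = 1 := fun x hx hxF => by
    obtain ⟨c, hc, rfl⟩ := hx
    have := Subgroup.disjoint_def.1 hR₀.disjoint (show c ∈ F.subgroupOf E' from hxF) hc
    simp [this]
  have hFR : F ⊔ R = E' := by
    conv_lhs => rw [← map_subgroupOf_eq_of_le hFE, hR, ← Subgroup.map_sup, hR₀.sup_eq_top,
      ← MonoidHom.range_eq_map, range_subtype]
  have hπR : R.map π = E := by
    have h := congrArg (Subgroup.map π) hFR
    rwa [Subgroup.map_sup, (Subgroup.map_eq_bot_iff F).2 (QuotientGroup.ker_mk' F).ge, bot_sup_eq,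
      hE', map_comap_eq_self_of_surjective hπs] at h
  have hinjR : ∀ x ∈ R, π x = 1 → x = 1 := fun x hx h => hRF x hx ((QuotientGroup.eq_one_iff x).1 h)
  have hRea : Cfsg.IsElementaryAbelian r R := by
    refine ⟨of_forall_commute fun x hx y hy => commutatorElement_eq_one_iff_mul_comm.1
      (hinjR _ (Subgroup.commutator_le_self R (commutator_mem_commutator hx hy)) ?_), fun x hx =>
      hinjR _ (pow_mem hx r) ?_⟩
    · rw [map_commutatorElement, commutatorElement_eq_one_iff_mul_comm]
      exact commute_mem hEea.1 (hπR ▸ mem_map_of_mem π hx) (hπR ▸ mem_map_of_mem π hy)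
    · rw [map_pow]
      exact hEea.2 _ (hπR ▸ mem_map_of_mem π hx)
  by_contra hnc
  -- `R` centralizes every core
  have hall : ∀ q : ℕ, q.Prime → R ≤ centralizer (Cfsg.pCore q G : Set G) := by
    intro q hq
    have := Fact.mk hq
    set M := Cfsg.pCore q G with hM
    have hMn : M.Normal := Core.pCore_normal
    by_cases hMne : M = ⊥
    · rw [hMne]; exact le_centralizer_iff.1 bot_le
    obtain ⟨hMea, hMmin⟩ := hcore q hq hMne
    by_cases hf : R ⊓ centralizer (M : Set G) = ⊥
    · exfalso
      have hqr : r ≠ q := by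
        rintro rfl
        have h1 : r ∣ Nat.card F := by
          have h2 : M ≤ F := Core.pCore_le_fittingSubgroup r
          obtain ⟨t, ht⟩ := IsPGroup.iff_card.1
            (fun x : M => ⟨1, Subtype.ext (by simpa using hMea.2 x x.2)⟩ : IsPGroup r M)
          refine (?_ : r ∣ Nat.card M).trans (card_dvd_of_le h2)
          rw [ht]
          rcases t with _ | t
          · rw [pow_zero, Subgroup.card_eq_one] at ht; exact absurd ht hMne
          · exact dvd_pow_self r (by omega)
        have h3 : r ∣ F.index := by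
          rw [Subgroup.index_eq_card]
          refine dvd_trans ?_ (card_subgroup_dvd_card E)
          obtain ⟨t, ht⟩ := IsPGroup.iff_card.1
            (fun x : E => ⟨1, Subtype.ext (by simpa using hEea.2 x x.2)⟩ : IsPGroup r E)
          rw [ht]
          rcases t with _ | t
          · rw [pow_zero, Subgroup.card_eq_one] at ht; exact absurd ht hE
          · exact dvd_pow_self r (by omega)
        exact Nat.not_coprime_of_dvd_of_dvd hr.one_lt h1 h3 hFhall
      have hFC : F ≤ centralizer (M : Set G) :=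
        hFc.trans (centralizer_le (Core.pCore_le_fittingSubgroup q))
      have hn : (centralizer (M : Set G) ⊔ R).Normal := by
        rw [← sup_eq_left.2 hFC, sup_assoc, hFR]
        infer_instance
      have hRc := cyclic_of_faithful hB hq hr hqr hMea hMne hMmin hRea hf hn
      refine hnc ?_
      rw [← hπR]
      exact isCyclic_of_surjective _ (π.subgroupMap_surjective R)
    · obtain ⟨x, hx, hx1⟩ : ∃ x ∈ R ⊓ centralizer (M : Set G), x ≠ 1 := by
        by_contra h
        push Not at h
        exact hf (eq_bot_iff.2 fun x hx => mem_bot.2 (h x hx))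
      intro y hy
      by_cases hy1 : y = 1
      · exact hy1 ▸ one_mem _
      exact mem_of_orderOf hB hx.2 ((orderOf_eq_prime (hRea.2 x hx.1) hx1).trans
        (orderOf_eq_prime (hRea.2 y hy) hy1).symm)
  have hRC : R ≤ centralizer (F : Set G) := by
    rw [le_centralizer_iff, hF, Core.fittingSubgroup_eq_iSup_pCore]
    exact iSup_le fun q => le_centralizer_iff.1 (hall (q : ℕ) q.2)
  refine hnc ?_
  rw [← hπR, (Subgroup.map_eq_bot_iff R).2 ((hRC.trans hCF).trans (QuotientGroup.ker_mk' F).ge)]
  infer_instance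

/-- All subgroups of equal order are conjugate. -/
theorem all_of_prop (G : Type u) [Group G] [Finite G] [Group.IsSolvable G] (hB : Prop' G) :
    All G := by
  induction hn : Nat.card G using Nat.strong_induction_on generalizing G with
  | _ n IH =>
  subst hn
  have hquot : ∀ (M : Subgroup G) (_ : M.Normal), M ≠ ⊥ → All (G ⧸ M) := by
    intro M _ hM
    have : Group.IsSolvable (G ⧸ M) :=
      Group.isSolvable_of_surjective (QuotientGroup.mk'_surjective M)
    refine IH _ ?_ (G ⧸ M) (prop_quotient G hB M) rfl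
    rw [Subgroup.card_eq_card_quotient_mul_card_subgroup M]
    exact lt_mul_of_one_lt_right Nat.card_pos ((Subgroup.one_lt_card_iff_ne_bot M).2 hM)
  by_cases hcase : ∃ M : Subgroup G, M.Normal ∧ (Nat.card M).Prime
  · obtain ⟨M, hMn, hMp⟩ := hcase
    have := Fact.mk hMp
    refine all_of_prime_order hMp M rfl (fun a ha => ?_)
      (hquot M hMn fun h => Nat.not_prime_one (by rwa [h, card_bot] at hMp))
    obtain ⟨m, hm⟩ := exists_prime_orderOf_dvd_card' (G := M) (Nat.card M) dvd_rfl
    exact mem_of_orderOf hB m.2 (by rw [orderOf_coe, hm, ha])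
  rcases subsingleton_or_nontrivial G with hsub | hnt
  · intro A B _
    exact ⟨1, by ext x; simp [Subsingleton.elim x 1, one_mem]⟩
  -- every core is trivial, or a minimal normal elementary abelian Sylow subgroup
  have hcore : ∀ q : ℕ, q.Prime → Cfsg.pCore q G ≠ ⊥ →
      (∀ S : Sylow q G, (S : Subgroup G) = Cfsg.pCore q G) ∧
      Cfsg.IsElementaryAbelian q (Cfsg.pCore q G) ∧
        ∀ K : Subgroup G, K.Normal → K ≤ Cfsg.pCore q G → K = ⊥ ∨ K = Cfsg.pCore q G := by
    intro q hq hne
    have := Fact.mk hq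
    have hOn : (Cfsg.pCore q G).Normal := Core.pCore_normal
    obtain ⟨N, hNn, hNO, hNne, hmin, q', hq', hNea⟩ := exists_minimal hne
    have hNp : IsPGroup q N := Core.pCore_isPGroup.to_le hNO
    obtain ⟨t, ht⟩ := IsPGroup.iff_card.1 hNp
    have hNea' : Cfsg.IsElementaryAbelian q N := by
      refine ⟨hNea.1, fun x hx => ?_⟩
      by_cases hx1 : x = 1
      · simp [hx1]
      have h1 : orderOf x = q' := @orderOf_eq_prime _ _ x q' ⟨hq'⟩ (hNea.2 x hx) hx1
      have h2 : q' ∣ q ^ t := h1 ▸ ht ▸ Subgroup.orderOf_dvd_natCard N hx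
      rw [(Nat.prime_dvd_prime_iff_eq hq' hq).1 (hq'.dvd_of_dvd_pow h2)] at h1
      rw [← h1]
      exact pow_orderOf_eq_one x
    have ht2 : 2 ≤ t := by
      by_contra h
      rcases Nat.le_one_iff_eq_zero_or_eq_one.1 (show t ≤ 1 by omega) with rfl | rfl
      · rw [pow_zero, Subgroup.card_eq_one] at ht; exact hNne ht
      · exact hcase ⟨N, hNn, by rw [ht, pow_one]; exact hq⟩
    have hS := fun S : Sylow q G => (S3909.result hB N).2 q t ht2 ht hNea' S
    let S₀ : Sylow q G := default
    have heq : Cfsg.pCore q G = N :=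
      le_antisymm ((Core.pCore_le_sylow S₀).trans (hS S₀).le) hNO
    rw [heq]
    exact ⟨hS, hNea', hmin⟩
  set F := Cfsg.fittingSubgroup G with hF
  have hFne : F ≠ ⊥ := Core.fittingSubgroup_ne_bot
  have hFhall : (Nat.card F).Coprime F.index := by
    refine Nat.coprime_of_dvd fun q hq hqF hqi => ?_
    have := Fact.mk hq
    obtain ⟨x, hx⟩ := exists_prime_orderOf_dvd_card' (G := F) q hqF
    have hxO := le_pCore_of_le_fitting (IsPGroup.of_card (n := 1)
      (by rw [Nat.card_zpowers, orderOf_coe, hx, pow_one]) : IsPGroup q (zpowers (x : G)))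
      (zpowers_le.2 x.2) (mem_zpowers _)
    have hne : Cfsg.pCore q G ≠ ⊥ := fun h0 => by
      rw [h0, mem_bot, OneMemClass.coe_eq_one] at hxO
      rw [hxO, orderOf_one] at hx; exact hq.ne_one hx.symm
    let S : Sylow q G := default
    have hSF : (S : Subgroup G) ≤ F := ((hcore q hq hne).1 S).le.trans (Core.pCore_le_fittingSubgroup q)
    exact S.not_dvd_index (hqi.trans (index_dvd_of_le hSF))
  have hFc : F ≤ centralizer (F : Set G) := by
    rw [hF, Core.fittingSubgroup_eq_iSup_pCore]
    refine iSup_le fun p => ?_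
    rw [le_centralizer_iff]
    refine iSup_le fun s => ?_
    have := Fact.mk p.2
    have := Fact.mk s.2
    rw [le_centralizer_iff]
    by_cases hps : (p : ℕ) = (s : ℕ)
    · rw [hps]
      by_cases hne : Cfsg.pCore (s : ℕ) G = ⊥
      · rw [hne]; exact bot_le
      · exact fun x hx => mem_centralizer_iff.2 fun y hy =>
          commute_mem (hcore s s.2 hne).2.1.1 hy hx
    · intro x hx
      have h1 : (Cfsg.pCore (p : ℕ) G).Normal := Core.pCore_normal
      have h2 : (Cfsg.pCore (s : ℕ) G).Normal := Core.pCore_normal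
      exact mem_centralizer_iff.2 fun y hy => (commute_of_normal_of_disjoint _ _ h2 h1
        (IsPGroup.disjoint_of_ne (s : ℕ) (p : ℕ) (Ne.symm hps) _ _ Core.pCore_isPGroup
          Core.pCore_isPGroup) y x hy hx).eq
  have hFcomm : IsMulCommutative F :=
    of_forall_commute fun x hx y hy => mem_centralizer_iff.1 (hFc hy) x hx
  have hCF : centralizer (F : Set G) ≤ F := Core.centralizer_fittingSubgroup_le
  have : Group.IsSolvable (G ⧸ F) :=
    Group.isSolvable_of_surjective (QuotientGroup.mk'_surjective F)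
  have hBH : Prop' (G ⧸ F) := prop_quotient G hB F
  have hnoH := fitting_quotient_no_elementary hB hFhall hCF
    (fun q hq hne => (hcore q hq hne).2) hFc
  refine all_of_normal_hall F hFhall (fun D E hD hE hDE => hB D E
    (of_forall_commute fun x hx y hy => commute_mem hFcomm (hD hx) (hD hy))
    (of_forall_commute fun x hx y hy => commute_mem hFcomm (hE hx) (hE hy)) hDE) fun D hD => ?_
  set π := QuotientGroup.mk' F with hπ
  set X := (normalizer (D : Set G)).map π with hX
  have hodd : ∀ {p : ℕ} [Fact p.Prime], p ≠ 2 → ∀ S : Sylow p X, IsCyclic (S : Subgroup X) :=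
    fun {p} _ hp S => cyclic_sylow_subgroup X (cyclic_of_odd hBH hnoH hp) S
  let P : Sylow 2 G := default
  let T : Sylow 2 (G ⧸ F) := P.mapSurjective (QuotientGroup.mk'_surjective F)
  have hT : (T : Subgroup (G ⧸ F)) = (P : Subgroup G).map π := Sylow.coe_mapSurjective _ _
  have zgroup : (∀ S : Sylow 2 X, IsCyclic (S : Subgroup X)) → All X := fun h =>
    all_of_cyclic_sylow X fun p hp S => by
      have := Fact.mk hp
      by_cases hp2 : p = 2
      · subst hp2; exact h S
      · exact hodd hp2 S
  rcases two_structure hBH hnoH T with hc | ⟨hTn, ⟨e⟩⟩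
  · refine zgroup fun S => cyclic_sylow_subgroup X (fun S' => ?_) S
    exact isCyclic_of_surjective (T.equiv S') (T.equiv S').surjective
  have htwo : ∀ R : Subgroup (G ⧸ F), IsPGroup 2 R → R ≤ T := fun R hR => by
    obtain ⟨S', hS'⟩ := hR.exists_le_sylow
    exact hS'.trans (T.is_maximal' S'.isPGroup' (T.isPGroup'.le_sylow_of_normal S')).le
  by_cases hTX : (T : Subgroup (G ⧸ F)) ≤ X
  swap
  · refine zgroup fun S => ?_
    have h1 : (S : Subgroup X).map X.subtype < T :=
      lt_of_le_of_ne (htwo _ (S.isPGroup'.map _)) fun h => hTX (h ▸ map_subtype_le _)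
    have := cyclic_of_lt_quaternion e h1
    exact isCyclic_of_injective
      ((S : Subgroup X).equivMapOfInjective X.subtype X.subtype_injective).toMonoidHom
      ((S : Subgroup X).equivMapOfInjective X.subtype X.subtype_injective).injective
  set Q := (T : Subgroup (G ⧸ F)).subgroupOf X with hQ
  have hQn : Q.Normal := hTn.subgroupOf X
  have hQp : IsPGroup 2 Q := T.isPGroup'.comap_of_injective _ X.subtype_injective
  have hQidx : ¬ 2 ∣ Q.index := fun h => T.not_dvd_index (h.trans
    (relIndex_dvd_index_of_normal (T : Subgroup (G ⧸ F)) X))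
  have hFN : F ≤ normalizer (D : Set G) := by
    refine le_trans (fun x hx => ?_) (centralizer_le_normalizer _)
    exact mem_centralizer_iff.2 fun y hy => commute_mem hFcomm (hD hy) hx
  have hPN : (P : Subgroup G) ≤ normalizer (D : Set G) := by
    intro y hy
    obtain ⟨x, hx, hxy⟩ := hTX (hT.ge (mem_map_of_mem π hy))
    have h1 : x⁻¹ * y ∈ F := QuotientGroup.eq.1 hxy
    simpa using mul_mem hx (hFN h1)
  have hPFn : ((P : Subgroup G) ⊔ F).Normal := by
    have h : ((P : Subgroup G).map π).comap π = (P : Subgroup G) ⊔ F := by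
      rw [Subgroup.comap_map_eq, QuotientGroup.ker_mk']
    rw [← h, ← hT]
    exact hTn.comap π
  have hPinj : ∀ x ∈ (P : Subgroup G), π x = 1 → x = 1 := by
    intro x hx hx1
    have hxF : x ∈ F := (QuotientGroup.eq_one_iff x).1 hx1
    by_contra hne
    have h8 : Nat.card (T : Subgroup (G ⧸ F)) = 8 := by
      rw [Nat.card_congr e.toEquiv, Nat.card_eq_fintype_card, QuaternionGroup.card]
    have h2i : 2 ∣ F.index := by
      rw [Subgroup.index_eq_card]
      exact dvd_trans (by rw [h8]; norm_num) (card_subgroup_dvd_card (T : Subgroup (G ⧸ F)))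
    obtain ⟨n, hn⟩ := IsPGroup.iff_orderOf.1 P.isPGroup' ⟨x, hx⟩
    rw [Subgroup.orderOf_mk] at hn
    refine hne (orderOf_eq_one_iff.1 ?_)
    have h2F : ¬ 2 ∣ Nat.card F := fun h => Nat.not_coprime_of_dvd_of_dvd (by norm_num) h h2i hFhall
    exact Nat.eq_one_of_dvd_coprimes ((Nat.prime_two.coprime_iff_not_dvd.2 h2F).pow_left n) hn.dvd
      (Subgroup.orderOf_dvd_natCard F hxF)
  let φ : ↥(P : Subgroup G) ≃* ↥(T : Subgroup (G ⧸ F)) :=
    (MulEquiv.ofBijective (π.subgroupMap (P : Subgroup G))
      ⟨(injective_iff_map_eq_one _).2 fun x hx => Subtype.ext (hPinj x x.2 (congrArg Subtype.val hx)),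
        π.subgroupMap_surjective _⟩).trans (MulEquiv.subgroupCongr hT.symm)
  have : Fact (Nat.Prime 2) := ⟨Nat.prime_two⟩
  refine all_of_normal_hall Q ?_ ?_ fun D' _ => ?_
  · obtain ⟨n, hn⟩ := IsPGroup.iff_card.1 hQp
    rw [hn]
    exact (Nat.prime_two.coprime_iff_not_dvd.2 hQidx).pow_left n
  · intro A B hA hB' hAB
    set A' := A.map X.subtype with hA'
    set B' := B.map X.subtype with hB''
    have hAT : A' ≤ T := (map_mono hA).trans (map_subgroupOf_eq_of_le hTX).le
    have hBT : B' ≤ T := (map_mono hB').trans (map_subgroupOf_eq_of_le hTX).le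
    have hc : Nat.card A' = Nat.card B' := by
      rw [card_map_of_injective X.subtype_injective, card_map_of_injective X.subtype_injective, hAB]
    suffices h : ∃ x ∈ X, B' = A'.map (MulAut.conj x).toMonoidHom by
      obtain ⟨x, hx, hxe⟩ := h
      refine ⟨⟨x, hx⟩, Subgroup.map_injective X.subtype_injective ?_⟩
      rw [← hB'', hxe, hA', Subgroup.map_map, Subgroup.map_map]
      congr 1
    have h8 : Nat.card (T : Subgroup (G ⧸ F)) = 2 ^ 3 := by
      rw [Nat.card_congr e.toEquiv, Nat.card_eq_fintype_card, QuaternionGroup.card]; norm_num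
    obtain ⟨k, hk, hk'⟩ := (Nat.dvd_prime_pow Nat.prime_two).1 (h8 ▸ card_dvd_of_le hAT)
    interval_cases k
    · refine ⟨1, one_mem _, ?_⟩
      rw [pow_zero, Subgroup.card_eq_one] at hk'
      rw [hk', card_bot, eq_comm, Subgroup.card_eq_one] at hc
      rw [hk', hc, Subgroup.map_bot]
    · refine ⟨1, one_mem _, ?_⟩
      have huniq : ∀ C : Subgroup (G ⧸ F), C ≤ T → Nat.card C = 2 →
          C = zpowers ((e.symm (QuaternionGroup.a 2) : (T : Subgroup (G ⧸ F))) : G ⧸ F) := by
        intro C hC hC2
        obtain ⟨w, hw⟩ := exists_prime_orderOf_dvd_card' (G := C) 2 hC2.symm.dvd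
        have hw2 : orderOf (w : G ⧸ F) = 2 := by rw [orderOf_coe, hw]
        have hwe : e ⟨w, hC w.2⟩ = QuaternionGroup.a 2 := by
          refine (quaternion_facts.2.1 _ ?_).resolve_left fun h1 => ?_
          · rw [← map_pow, ← map_one e]
            exact congrArg e (Subtype.ext (orderOf_dvd_iff_pow_eq_one.1 hw2.dvd))
          · rw [congrArg Subtype.val ((map_eq_one_iff e e.injective).1 h1) , OneMemClass.coe_one,
              orderOf_one] at hw2
            omega
        rw [← hwe, e.symm_apply_apply]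
        exact (eq_of_le_of_card_ge (zpowers_le.2 w.2) (by rw [Nat.card_zpowers, hw2, hC2])).symm
      rw [huniq A' hAT (by rw [hk']; norm_num), huniq B' hBT (by rw [← hc, hk']; norm_num)]
      ext y; simp
    · obtain ⟨i₀, hi₀, hi4, hiA⟩ := exists_generator_four e hAT (by rw [hk']; norm_num)
      obtain ⟨j₀, hj₀, hj4, hjB⟩ := exists_generator_four e hBT (by rw [← hc, hk']; norm_num)
      obtain ⟨i, hi, rfl⟩ := hT.le (hAT hi₀)
      obtain ⟨j, hj, rfl⟩ := hT.le (hBT hj₀)
      have hord : ∀ y ∈ (P : Subgroup G), orderOf (π y) = orderOf y := fun y hy => by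
        have h := orderOf_injective (π.comp (P : Subgroup G).subtype)
          ((injective_iff_map_eq_one _).2 fun x hx => Subtype.ext (hPinj x x.2 hx)) ⟨y, hy⟩
        rw [Subgroup.orderOf_mk] at h
        exact h
      obtain ⟨g, hg, hgeq⟩ := conj_four hB hFcomm hFhall (fun q hq hne => (hcore q hq hne).2.1) hF P
        (φ.trans e) hPFn hD hPN hi hj (hord i hi ▸ hi4) (hord j hj ▸ hj4)
      refine ⟨π g, mem_map_of_mem π hg, ?_⟩
      rw [MonoidHom.map_zpowers, MonoidHom.map_zpowers, hiA, hjB] at hgeq
      exact hgeq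
    · refine ⟨1, one_mem _, ?_⟩
      rw [eq_of_le_of_card_ge hAT (by rw [hk', h8]), eq_of_le_of_card_ge hBT (by rw [← hc, hk', h8])]
      ext y; simp
  · refine all_of_cyclic_sylow _ fun p hp S => ?_
    have := Fact.mk hp
    refine cyclic_sylow_subgroup _ (fun S' => ?_) S
    by_cases hp2 : p = 2
    · subst hp2
      obtain ⟨n, hn⟩ := IsPGroup.iff_card.1 S'.isPGroup'
      have h1 : Nat.card (S' : Subgroup (X ⧸ Q)) ∣ Q.index := by
        rw [Subgroup.index_eq_card]; exact card_subgroup_dvd_card _
      rcases n with _ | n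
      · rw [pow_zero, Subgroup.card_eq_one] at hn
        rw [hn]; infer_instance
      · rw [hn] at h1
        exact absurd ((dvd_pow_self 2 n.succ_ne_zero).trans h1) hQidx
    · exact cyclic_sylow_quotient Q (hodd hp2) S'

end Cfsg.Agent.ConjAbelian
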